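import Cfsg.Agent.H68.Ly.RepHom
import Cfsg.Agent.H46.Ly.SchurAbs

/-!
Straight line programs in the presented Lyons group, evaluated on packed matrices.
-/

set_option autoImplicit false
set_option maxRecDepth 10000
set_option exponentiation.threshold 300

namespace H46.LySchur

open H68.Ly H97.SchurCert

abbrev Lyo := Cfsg.Spor.Ly

/-- the rows of a packed matrix -/
def rowsX (X : ℕ) : List ℕ :=
  (List.range 111).map fun i => (X >>> (3552 * i)) &&& (2 ^ 3552 - 1)

/-- the product of two packed matrices -/
noncomputable def mulN (cm m X Y : ℕ) (k : ℕ → Bool) : Bool :=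
  sumK cm X (rowsX Y) 0 0 fun Z => fz (redWith m Z) k

/-- the entry with a given number -/
noncomputable def nth {α : Type} (d : α) (l : List α) : ℕ → α :=
  List.rec (motive := fun _ => ℕ → α) (fun _ => d)
    (fun hd _ ih n => Nat.rec (motive := fun _ => α) hd (fun n _ => ih n) n) l

/-- the entries of a table -/
def listTab (N : Mat) : List (List ℕ) :=
  List.ofFn fun i => List.ofFn fun j => (N i j).val

theorem length_ofFn' {α : Type} {n : ℕ} (f : Fin n → α) : (List.ofFn f).length = n :=
  List.length_ofFn

theorem tabOK_listTab (N : Mat) : tabOK (listTab N) = true := by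
  simp only [tabOK, listTab, Bool.and_eq_true, beq_iff_eq, List.all_eq_true, decide_eq_true_eq,
    length_ofFn', true_and, List.mem_ofFn]
  rintro r ⟨i, rfl⟩
  refine ⟨length_ofFn' _, fun x hx => ?_⟩
  obtain ⟨j, rfl⟩ := List.mem_ofFn.1 hx
  exact ZMod.val_lt _

theorem toM_listTab (N : Mat) : toM (listTab N) = N := by
  funext i j
  rw [toM, Matrix.of_apply, listTab,
    List.getD_eq_getElem _ _ (lt_of_lt_of_eq i.isLt (length_ofFn' _).symm), List.getElem_ofFn,
    List.getD_eq_getElem _ _ (lt_of_lt_of_eq j.isLt (length_ofFn' _).symm), List.getElem_ofFn]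
  exact ZMod.natCast_zmod_val _

theorem qk_digit (W : ℕ) : ∀ (m : ℕ) (f : ℕ → ℕ), (∀ i < m, f i < 2 ^ W) → ∀ i < m,
    (qk W m f >>> (W * i)) &&& (2 ^ W - 1) = f i
  | 0, _, _, _, h => absurd h (Nat.not_lt_zero _)
  | m + 1, f, hf, 0, _ => by
    rw [qk, Nat.mul_zero, Nat.shiftRight_zero, Nat.and_two_pow_sub_one_eq_mod,
      Nat.add_mul_mod_self_left, Nat.mod_eq_of_lt (hf 0 (Nat.succ_pos m))]
  | m + 1, f, hf, i + 1, h => by
    rw [qk, Nat.shiftRight_eq_div_pow, Nat.mul_succ, Nat.add_comm (W * i), pow_add,
      ← Nat.div_div_eq_div_mul, Nat.add_mul_div_left _ _ (Nat.two_pow_pos W),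
      Nat.div_eq_of_lt (hf 0 (Nat.succ_pos m)), Nat.zero_add, ← Nat.shiftRight_eq_div_pow]
    exact qk_digit W m (fun i => f (i + 1)) (fun i hi => hf (i + 1) (Nat.succ_lt_succ hi)) i
      (Nat.lt_of_succ_lt_succ h)

theorem packTab_listTab (N : Mat) : packTab (listTab N) = rowsX (St N) := by
  have key : ∀ i < 111, (St N >>> (32 * 111 * i)) &&& (2 ^ (32 * 111) - 1) =
      H60.PackMat.pk 111 (entry N i) := fun i hi => by
    rw [St]
    exact qk_digit _ _ _ (fun j _ => H60.PackMat.pk_lt 111 fun k _ => (entry_lt N j k).trans (by decide))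
      i hi
  refine List.ext_getElem ?_ fun i h1 h2 => ?_
  · rw [packTab, rowsX, listTab, List.length_map, length_ofFn', List.length_map, List.length_range]
  have hi : i < 111 := by rwa [rowsX, List.length_map, List.length_range] at h2
  have hr : ∀ (X j : ℕ) (hj : j < (rowsX X).length),
      (rowsX X)[j] = (X >>> (32 * 111 * j)) &&& (2 ^ (32 * 111) - 1) := fun X j hj => by
    simp only [rowsX, List.getElem_map, List.getElem_range]
  refine Eq.trans ?_ ((hr (St N) i h2).trans (key i hi)).symm
  simp only [packTab, listTab, List.getElem_map, List.getElem_ofFn]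
  rw [packRow_eq, length_ofFn']
  refine H60.PackMat.pk_congr _ fun k hk => ?_
  rw [List.getD_eq_getElem _ _ (lt_of_lt_of_eq hk (length_ofFn' _).symm), List.getElem_ofFn,
    ← entry_fin]

theorem mulN_eq (M N : Mat) (k : ℕ → Bool) :
    mulN cmask (H60.PackMat.rep (111 * 111) 65535) (St M) (St N) k = k (St (M * N)) := by
  rw [mulN, ← packTab_listTab, sumK_eq, zero_add, fz_eq, step_St (tabOK_listTab N), toM_listTab]

/-- the packed matrix of an element -/
noncomputable def code (g : Lyo) : ℕ := St (rep g : GL (Fin 111) (ZMod 5))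

theorem code_one : code 1 = idN := by rw [code, map_one, Units.val_one, idN_eq]

theorem mulN_code (g h : Lyo) (k : ℕ → Bool) :
    mulN cmask (H60.PackMat.rep (111 * 111) 65535) (code g) (code h) k = k (code (g * h)) := by
  rw [code, code, mulN_eq, code, map_mul, Units.val_mul]

theorem nth_map {α β : Type} (f : α → β) (d : α) : ∀ (l : List α) (n : ℕ),
    nth (f d) (l.map f) n = f (nth d l n)
  | [], _ => rfl
  | _ :: _, 0 => rfl
  | a :: l, n + 1 => nth_map f d l n

/-- run a program: every step appends in front the product of two earlier entries -/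
noncomputable def runP (cm m i1 : ℕ) (prog : List (ℕ × ℕ)) : List ℕ → (List ℕ → Bool) → Bool :=
  List.rec (motive := fun _ => List ℕ → (List ℕ → Bool) → Bool) (fun env k => k env)
    (fun q _ ih env k => mulN cm m (nth i1 env q.1) (nth i1 env q.2) fun z => ih (z :: env) k) prog

/-- the same in the group -/
noncomputable def runG : List (ℕ × ℕ) → List Lyo → List Lyo
  | [], env => env
  | q :: prog, env => runG prog (nth 1 env q.1 * nth 1 env q.2 :: env)

theorem runP_eq : ∀ (prog : List (ℕ × ℕ)) (env : List Lyo) (k : List ℕ → Bool),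
    runP cmask (H60.PackMat.rep (111 * 111) 65535) idN prog (env.map code) k =
      k ((runG prog env).map code)
  | [], _, _ => rfl
  | q :: prog, env, k => by
    show mulN cmask (H60.PackMat.rep (111 * 111) 65535) (nth idN (env.map code) q.1)
      (nth idN (env.map code) q.2) (fun z => runP cmask (H60.PackMat.rep (111 * 111) 65535) idN prog
        (z :: env.map code) k) = _
    rw [← code_one, nth_map, nth_map, mulN_code, code_one]
    exact runP_eq prog (nth 1 env q.1 * nth 1 env q.2 :: env) k

/-- the product of some entries -/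
noncomputable def prodP (cm m i1 : ℕ) (env : List ℕ) (w : List ℕ) : ℕ → (ℕ → Bool) → Bool :=
  List.rec (motive := fun _ => ℕ → (ℕ → Bool) → Bool) (fun acc k => k acc)
    (fun s _ ih acc k => mulN cm m acc (nth i1 env s) fun z => ih z k) w

theorem prodP_eq (env : List Lyo) : ∀ (w : List ℕ) (g : Lyo) (k : ℕ → Bool),
    prodP cmask (H60.PackMat.rep (111 * 111) 65535) idN (env.map code) w (code g) k =
      k (code (g * evG (fun s => nth 1 env s) w))
  | [], g, k => by simp [prodP, evG]
  | s :: w, g, k => by
    show mulN cmask (H60.PackMat.rep (111 * 111) 65535) (code g) (nth idN (env.map code) s)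
      (fun z => prodP cmask (H60.PackMat.rep (111 * 111) 65535) idN (env.map code) w z k) = _
    rw [← code_one, nth_map, mulN_code, code_one, prodP_eq env w]
    simp [evG, mul_assoc]

end H46.LySchur
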