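import Cfsg.Agent.H97.SchurCertDefs

/-! A certificate that 3 does not divide the multiplier of the Lyons group (generated data). -/

set_option autoImplicit false
set_option maxRecDepth 20000

namespace H46.LySchur

open H97.SchurCert

def data3 : Data where
  p := 3
  n := 7
  syms := [0, 0, 0, 0, 0, 0, 0, 0, 0, 0, 0]
  rules := [
    ([0, 0, 0], []), ([1, 1, 1], []), ([2, 2, 2], []), ([3, 3, 3], []),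
    ([4, 4, 4], []), ([5, 5, 5], []), ([6, 6, 6], []), ([1, 0], [0, 1, 3]),
    ([2, 0], [0, 2, 4]), ([2, 1], [1, 2, 6, 6]), ([3, 0], [0, 3]), ([3, 1], [1, 3, 5]),
    ([3, 2], [2, 3, 6]), ([4, 0], [0, 4]), ([4, 1], [1, 4, 6]), ([4, 2], [2, 4, 5, 6]),
    ([4, 3], [3, 4]), ([5, 0], [0, 5]), ([5, 1], [1, 5]), ([5, 2], [2, 5]),
    ([5, 3], [3, 5]), ([5, 4], [4, 5]), ([6, 0], [0, 6]), ([6, 1], [1, 6]),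
    ([6, 2], [2, 6]), ([6, 3], [3, 6]), ([6, 4], [4, 6]), ([6, 5], [5, 6]),
    ([7, 0, 3, 5, 5], [0, 0, 3, 3, 5, 7]), ([8, 0], [0, 8]), ([8, 3, 5, 5, 6, 6], [0, 0, 3, 3, 5, 5, 8]), ([8, 4], [3, 3, 4, 4, 5, 5, 6, 6, 8]),
    ([8, 5, 6, 6], [5, 6, 6, 8]), ([8, 6], [0, 3, 3, 8]), ([9, 1, 6], [1, 1, 5, 5, 9]), ([9, 2, 4], [2, 4, 9]),
    ([9, 5, 6, 6], [5, 6, 6, 9]), ([10, 1, 2, 2, 6], [1, 2, 5, 10]), ([10, 2, 3, 3, 4, 4, 5, 6, 6], [1, 1, 2, 3, 4, 4, 5, 5, 6, 6, 10]), ([10, 5, 6, 6], [5, 6, 6, 10])]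
  defs := [(7, 3), (8, 4), (11, 5), (12, 6)]
  targets := [0, 1, 2, 3, 4, 5, 6, 9, 10, 13, 14, 15, 16, 17, 18, 19, 20, 21, 22, 23, 24, 25, 26, 27]
  paths := [
    ([2, 1, 0], [(0, 9, true), (3, 22, true), (2, 22, true), (1, 8, true), (0, 7, true), (2, 12, true), (4, 26, true), (5, 6, true), (3, 16, false), (4, 6, false), (3, 26, false), (4, 26, false), (1, 9, false), (2, 14, false), (0, 8, false), (1, 7, false)]),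
    ([3, 1, 0], [(0, 11, true), (2, 17, true), (1, 10, true), (0, 7, true), (3, 20, false), (1, 11, false), (0, 10, false), (1, 7, false)]),
    ([3, 2, 0], [(0, 12, true), (2, 22, true), (1, 10, true), (0, 8, true), (2, 16, true), (3, 26, false), (1, 12, false), (0, 10, false), (1, 8, false)]),
    ([3, 2, 1], [(0, 12, true), (2, 23, true), (1, 11, true), (0, 9, true), (3, 25, true), (2, 25, true), (4, 27, true), (3, 27, true), (4, 6, true), (4, 6, false), (3, 27, false), (1, 12, false), (2, 19, false), (0, 11, false), (1, 9, false)]),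
    ([4, 1, 0], [(0, 14, true), (2, 22, true), (1, 13, true), (0, 7, true), (2, 16, false), (3, 25, false), (1, 14, false), (0, 13, false), (1, 7, false)]),
    ([4, 2, 0], [(0, 15, true), (3, 22, true), (2, 17, true), (1, 13, true), (0, 8, true), (3, 21, false), (4, 26, false), (1, 15, false), (0, 13, false), (1, 8, false)]),
    ([4, 2, 1], [(0, 15, true), (3, 23, true), (2, 18, true), (1, 14, true), (0, 9, true), (3, 26, true), (2, 26, true), (3, 6, true), (4, 6, false), (1, 15, false), (2, 24, false), (0, 14, false), (1, 9, false)]),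
    ([4, 3, 1], [(0, 16, true), (1, 14, true), (0, 11, true), (2, 21, true), (3, 27, false), (1, 16, false), (2, 25, false), (0, 14, false), (1, 11, false)]),
    ([4, 3, 2], [(0, 16, true), (1, 15, true), (0, 12, true), (2, 26, true), (3, 27, true), (1, 16, false), (2, 20, false), (3, 25, false), (0, 15, false), (1, 12, false)]),
    ([5, 1, 0], [(0, 18, true), (1, 17, true), (0, 7, true), (2, 20, false), (1, 18, false), (0, 17, false), (1, 7, false)]),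
    ([5, 2, 0], [(0, 19, true), (1, 17, true), (0, 8, true), (2, 21, false), (1, 19, false), (0, 17, false), (1, 8, false)]),
    ([1, 1, 1, 0], [(0, 1, true), (1, 3, false), (3, 5, false), (2, 20, false), (1, 1, false), (3, 11, false), (4, 11, false), (5, 18, false), (4, 20, false), (2, 11, false), (0, 7, false), (1, 7, false), (2, 7, false)]),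
    ([1, 0, 0, 0], [(0, 7, true), (2, 10, true), (1, 7, true), (4, 10, true), (3, 10, true), (2, 7, true), (0, 0, true), (1, 3, true), (1, 0, false)]),
    ([2, 2, 2, 0], [(0, 2, true), (1, 4, false), (3, 6, false), (3, 5, false), (5, 27, false), (6, 27, false), (4, 27, false), (2, 21, false), (3, 26, false), (1, 2, false), (3, 15, false), (4, 15, false), (5, 19, false), (6, 24, false), (4, 21, false), (5, 26, false), (2, 15, false), (0, 8, false), (1, 8, false), (2, 8, false)]),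
    ([2, 0, 0, 0], [(0, 8, true), (2, 13, true), (1, 8, true), (4, 13, true), (3, 13, true), (2, 8, true), (0, 0, true), (1, 4, true), (1, 0, false)]),
    ([2, 2, 2, 1], [(0, 2, true), (1, 6, false), (1, 2, false), (3, 24, false), (3, 6, false), (2, 24, false), (3, 24, false), (0, 9, false), (1, 9, false), (2, 9, false)]),
    ([3, 3, 3, 1], [(0, 3, true), (1, 5, false), (1, 3, false), (3, 20, false), (4, 20, false), (2, 20, false), (0, 11, false), (1, 11, false), (2, 11, false)]),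
    ([7, 0, 3, 5, 5, 0, 3, 5, 5, 0, 3, 5, 5], [(0, 28, true), (5, 28, true), (10, 28, true), (4, 17, true), (3, 10, true), (2, 10, true), (0, 0, true), (2, 17, true), (1, 10, true), (0, 10, true), (3, 20, true), (1, 3, true), (1, 20, true), (3, 17, true), (2, 17, true), (1, 10, true), (4, 17, true), (3, 17, true), (2, 10, true), (0, 0, true), (2, 20, true), (1, 20, true), (3, 20, true), (2, 20, true), (0, 3, true), (0, 5, true), (1, 5, false), (1, 3, false), (3, 20, false), (1, 0, false), (3, 10, false), (4, 10, false), (5, 17, false), (5, 5, false), (4, 20, false), (5, 20, false), (2, 10, false), (3, 17, false), (4, 17, false)]),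
    ([8, 3, 5, 5, 6, 6, 0], [(0, 30, true), (6, 29, true), (5, 17, true), (4, 17, true), (3, 10, true), (2, 10, true), (0, 0, true), (0, 0, false), (1, 30, false), (0, 29, false), (1, 10, false), (2, 17, false), (3, 17, false), (4, 22, false), (5, 22, false)]),
    ([8, 4, 0], [(0, 31, true), (8, 29, true), (7, 22, true), (6, 22, true), (5, 17, true), (4, 17, true), (3, 13, true), (2, 13, true), (1, 10, true), (0, 10, true), (1, 31, false), (0, 29, false), (1, 13, false)]),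
    ([9, 1, 6, 1, 6, 1, 6], [(0, 34, true), (4, 34, true), (8, 34, true), (3, 18, true), (2, 18, true), (0, 1, true), (1, 18, true), (0, 18, true), (1, 5, true), (1, 18, true), (2, 18, true), (0, 1, true), (0, 5, true), (1, 6, false), (1, 1, false), (3, 23, false), (4, 23, false), (2, 23, false)]),
    ([9, 2, 4, 1, 6], [(0, 35, true), (2, 34, true), (1, 14, true), (0, 9, true), (3, 26, true), (2, 26, true), (3, 6, true), (2, 14, true), (1, 9, true), (4, 26, true), (3, 26, true), (4, 6, true), (3, 21, false), (4, 21, false), (2, 19, false), (3, 19, false), (4, 35, false), (0, 34, false), (2, 24, true), (3, 26, true), (4, 6, false), (3, 26, false), (4, 26, false), (1, 9,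 false), (2, 14, false)]),
    ([10, 1, 2, 2, 6, 1, 2, 2, 6, 1, 2, 2, 6], [(0, 37, true), (3, 37, true), (6, 37, true), (2, 18, true), (1, 9, true), (4, 27, true), (3, 27, true), (5, 24, true), (4, 24, true), (3, 19, true), (6, 27, true), (5, 27, true), (7, 23, true), (6, 23, true), (5, 18, true), (4, 18, true), (3, 9, true), (2, 9, true), (0, 1, true), (2, 24, true), (1, 24, true), (2, 6, true), (2, 27, true), (3, 27, true), (4, 6, true), (3, 19, true), (2, 19, true), (0, 2, true), (0, 5, true), (1, 6, false), (1, 2, false), (3, 24, false), (4, 24, false), (2, 24, false), (3, 24, false), (1, 1, false), (3, 9, false), (4, 6, false), (3, 24, false), (4, 24, false), (3, 2,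 false), (5, 24, false), (6, 24, false), (5, 6, false), (4, 24, false), (5, 24, false), (2, 9, false), (3, 9, false), (4, 23, false)]),
    ([10, 2, 3, 3, 4, 4, 5, 6, 6, 1, 2, 2, 6], [(0, 38, true), (10, 37, true), (9, 23, true), (8, 23, true), (7, 18, true), (6, 18, true), (5, 14, true), (4, 14, true), (3, 11, true), (2, 9, true), (0, 1, true), (2, 25, true), (1, 25, true), (3, 27, true), (2, 27, true), (4, 26, true), (3, 26, true), (2, 21, true), (4, 6, true), (3, 21, true), (5, 27, true), (6, 27, true), (4, 5, true), (4, 6, true), (3, 15, true), (2, 15, true), (1, 12, true), (3, 26, true), (4, 27, true), (6, 26, true), (5, 26, true), (4, 21, true), (7, 27, true), (6,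 27, true), (7, 6, true), (5, 5, true), (5, 6, false), (5, 5, false), (7, 27, false), (6, 27, false), (4, 21, false), (5, 26, false), (3, 21, false), (4, 26, false), (2, 20, false), (3, 25, false), (1, 19, false), (2, 24, false), (2, 6, false), (1, 27, false), (2, 27, false), (0, 1, false), (2, 9, false), (3, 18, false), (4, 23, false), (5, 23, false), (3, 27, false), (4, 27, false), (1, 9, false), (2, 18, false), (3, 38, false), (0, 37, false), (4, 24, true), (2, 2, true), (2, 25, true), (3, 25, true), (4, 26, true), (5, 26, true), (6, 27, true), (7, 6, true), (7, 6, false), (6, 27, false), (6, 5, false), (8, 27, false), (5, 21, false), (6, 6, false), (5, 27, false), (6,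 27, false), (4, 26, false), (5, 26, false), (3, 25, false), (2, 2, false), (4, 12, false), (5, 12, false), (6, 15, false), (7, 15, false), (8, 19, false), (9, 19, false), (10, 24, false), (7, 21, false), (8, 6, false), (7, 27, false), (8, 27, false), (6, 26, false), (7, 26, false), (5, 25, false), (3, 12, false), (4, 12, false), (5, 15, false), (6, 15, false), (7, 6, false), (7, 5, false), (9, 27, false), (6, 21, false), (7, 21, false), (8, 6, false), (5, 21, false), (6, 21, false), (7, 26, false), (8, 26, false), (6, 27, false), (7, 27, false), (4, 20, false), (5, 25, false), (6, 25, false), (4, 27, false), (5, 27, false), (3, 25, false), (4, 25, false), (1, 9, false),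 (2, 11, false), (3, 11, false), (4, 14, false), (5, 14, false), (6, 18, false), (7, 23, false), (8, 23, false)])]
  combos := [
    [(12, 2), (16, 2), (17, 1)],
    [(15, 1), (16, 2), (20, 1)],
    [(3, 2), (6, 2), (8, 1), (9, 1), (10, 1), (11, 2), (12, 2), (13, 1), (14, 1), (16, 2), (22, 2)],
    [(12, 1)],
    [(14, 1)],
    [(16, 2)],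
    [(15, 1)],
    [(0, 1), (1, 1), (4, 2), (5, 2), (7, 2), (8, 2), (10, 2), (13, 1), (14, 1), (16, 2), (21, 1)],
    [(2, 1), (4, 1), (7, 1), (8, 1), (9, 2), (10, 1), (18, 1)],
    [(1, 1), (9, 2), (18, 1), (19, 1)],
    [(0, 2), (1, 1), (2, 1), (4, 2), (5, 2), (7, 2), (8, 2)],
    [(0, 2), (1, 2), (4, 1), (5, 1), (6, 2), (7, 1), (8, 1), (9, 2), (10, 2), (11, 1), (12, 1), (13, 2), (14, 2), (16, 2), (21, 2), (23, 1)],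
    [(1, 1), (2, 1), (5, 2), (9, 2), (10, 1)],
    [(1, 1), (9, 2)],
    [(9, 2), (11, 2), (12, 2), (16, 1)],
    [(1, 2), (2, 1), (3, 1), (4, 1), (5, 1), (6, 2), (7, 1), (10, 1), (11, 2), (12, 2), (13, 1), (14, 1), (15, 1)],
    [(9, 2)],
    [(10, 2)],
    [(2, 2), (4, 2), (7, 2), (8, 2), (9, 1), (10, 2)],
    [(3, 2), (6, 2), (8, 1), (9, 1), (10, 1), (11, 2), (12, 2), (13, 1), (14, 1), (15, 1)],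
    [(1, 2), (2, 1), (3, 2), (4, 1), (5, 1), (6, 1), (7, 1), (8, 2), (10, 1), (11, 1), (12, 1), (13, 1), (14, 1), (15, 1), (16, 1)],
    [(1, 2), (2, 1), (4, 1), (5, 1), (7, 2), (8, 2), (9, 2), (10, 1)],
    [(1, 1), (2, 2), (4, 2), (5, 2), (7, 2), (8, 2)],
    [(1, 1), (2, 2), (4, 2), (5, 2), (8, 1), (9, 1), (10, 1)]]
  sorted := []

/-- the symbols as a straight line program -/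
def prog3 : List (ℕ × ℕ) := [
    (7, 4), (0, 8), (0, 11), (0, 12), (0, 13), (0, 14), (0, 8), (0, 16),
    (0, 10), (0, 18), (0, 19), (0, 20), (0, 21), (0, 20), (0, 18), (0, 22),
    (0, 25), (0, 26), (0, 27), (0, 28), (0, 22), (0, 30), (0, 24), (0, 32),
    (0, 33), (0, 34), (0, 35), (0, 34), (0, 32), (0, 36), (0, 36), (0, 39),
    (0, 37), (0, 39), (0, 39), (0, 38), (38, 45), (0, 39), (0, 42), (0, 43),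
    (0, 44), (0, 45), (0, 49), (0, 47), (0, 51), (0, 49), (0, 50), (0, 51),
    (0, 52), (0, 51), (0, 59), (0, 53), (0, 56), (0, 57), (0, 58), (0, 59),
    (0, 63), (0, 61), (0, 65), (0, 63), (0, 64), (0, 65), (0, 66), (0, 65),
    (0, 73), (0, 67), (30, 0), (0, 0), (0, 0), (74, 70), (0, 77), (0, 79),
    (0, 72), (0, 73), (83, 83), (0, 84), (0, 85), (3, 0), (3, 81), (0, 81),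
    (0, 86), (0, 81), (4, 0), (92, 86), (0, 89), (0, 88), (0, 92), (0, 92),
    (0, 22), (0, 95), (0, 95), (0, 99), (0, 62), (0, 99), (0, 94), (0, 103),
    (0, 96), (0, 106), (15, 0), (0, 0), (1, 0), (1, 1), (1, 0), (0, 29),
    (105, 34), (113, 0), (115, 0), (110, 0), (116, 112), (11, 26), (0, 0), (0, 0),
    (1, 2), (1, 0), (32, 0), (7, 0), (12, 0), (50, 0), (123, 9), (123, 0),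
    (128, 0), (55, 0), (127, 0), (124, 0), (124, 0), (128, 0), (127, 0), (97, 0),
    (129, 0), (132, 0), (100, 0), (47, 101), (0, 138), (0, 133), (0, 140), (0, 138),
    (0, 136), (0, 71), (0, 141), (0, 143), (36, 0), (0, 26), (24, 0), (112, 146),
    (0, 149), (0, 148), (0, 116), (0, 153), (0, 148), (0, 83), (0, 156), (0, 151),
    (0, 160), (0, 158), (0, 162), (0, 89), (13, 0), (91, 48), (159, 0), (164, 0),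
    (161, 0), (169, 0), (167, 0), (133, 0), (172, 0), (174, 0), (0, 51), (63, 0),
    (11, 0), (172, 172), (0, 170), (0, 179), (0, 178), (0, 143), (0, 174), (0, 181),
    (0, 176), (0, 183), (0, 112), (0, 187), (0, 180), (0, 187), (0, 190), (79, 0),
    (0, 69), (16, 0), (1, 69), (0, 70), (189, 122), (197, 0), (190, 0), (199, 0),
    (126, 0), (194, 0), (199, 0), (165, 0), (197, 0), (202, 0), (201, 0), (199, 0),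
    (203, 0), (171, 0), (14, 0), (0, 18), (0, 36), (208, 16), (206, 0), (208, 0),
    (208, 0), (217, 0), (180, 0), (6, 0), (0, 0), (27, 0), (222, 222), (220, 0),
    (219, 0), (218, 0), (152, 0), (224, 0), (221, 0), (226, 0), (223, 0), (193, 0),
    (227, 0), (230, 0), (227, 0), (230, 0), (0, 113), (125, 0), (236, 230), (0, 237),
    (0, 235), (0, 237), (0, 242), (131, 0), (0, 121), (0, 26), (70, 0), (37, 0),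
    (98, 0), (11, 0), (28, 0), (101, 101), (0, 177), (0, 103), (0, 9), (0, 17),
    (0, 37), (0, 47), (0, 48), (0, 49), (0, 50), (0, 111), (0, 52), (0, 18),
    (40, 261), (0, 263), (0, 192), (0, 265), (0, 265), (0, 269), (0, 270), (0, 268),
    (0, 270), (0, 199), (0, 272), (11, 0), (100, 100), (58, 0), (102, 0), (154, 0),
    (87, 0), (206, 0), (118, 0), (119, 0), (120, 0), (121, 0), (110, 0), (123, 0),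
    (163, 0), (13, 0), (45, 52), (46, 0), (128, 0), (55, 0), (144, 0), (220, 0),
    (0, 0), (0, 47), (104, 0), (0, 223), (49, 223), (1, 0), (294, 123), (296, 0),
    (266, 0), (298, 0), (298, 0), (302, 0), (303, 0), (301, 0), (303, 0), (273, 0),
    (305, 0), (0, 24), (50, 0), (0, 239), (26, 239), (1, 0), (242, 19), (242, 68),
    (1, 0), (0, 22), (20, 71), (1, 0), (3, 9), (23, 35), (1, 0), (328, 325),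
    (203, 178), (0, 91), (0, 255), (0, 138), (0, 0), (1, 0), (1, 1), (1, 0),
    (1, 1), (1, 0), (213, 263), (0, 200), (0, 190), (0, 266), (0, 267), (0, 179),
    (0, 0), (1, 0)]

/-- where the symbols are -/
def pos3 : List ℕ := [269, 95, 56, 44, 28, 22, 19, 18, 103, 8, 0]

/-- vectors witnessing the order of the Sylow subgroup -/
def vecs3 : List (List (List ℕ)) := [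
    [[3, 3, 1, 3, 3, 0, 0, 0, 3, 0, 0, 0, 3, 1, 0, 0, 4, 3, 3, 4, 3, 0, 2, 1, 3, 3, 0, 3, 2, 3, 1, 2, 3, 1, 3, 3, 0, 4, 4, 1, 3, 3, 1, 0, 4, 2, 1, 1, 1, 2, 0, 3, 3, 2, 4, 3, 2, 0, 1, 1, 3, 2, 0, 0, 1, 1, 0, 4, 4, 1, 2, 0, 2, 3, 2, 0, 4, 2, 3, 4, 3, 0, 3, 0, 3, 0, 4, 3, 2, 1, 0, 4, 0, 2, 1, 0, 2, 0, 3, 4, 3, 3, 0, 2, 3, 4, 2, 0, 0, 1, 0]],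
    [[0, 2, 1, 0, 1, 3, 3, 4, 0, 2, 3, 2, 1, 1, 1, 0, 4, 1, 1, 4, 3, 4, 1, 3, 1, 3, 0, 4, 2, 4, 2, 2, 2, 4, 0, 0, 4, 4, 3, 2, 1, 2, 0, 4, 1, 4, 0, 4, 1, 4, 1, 1, 2, 2, 2, 3, 2, 3, 2, 1, 2, 1, 4, 2, 3, 4, 2, 3, 3, 3, 4, 1, 1, 2, 1, 4, 0, 0, 4, 4, 3, 0, 2, 2, 3, 4, 4, 3, 4, 1, 0, 0, 0, 0, 0, 0, 0, 0, 0, 0, 0, 0, 0, 0, 0, 0, 0, 0, 0, 0, 0],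
      [2, 3, 2, 0, 1, 1, 3, 0, 4, 2, 1, 1, 2, 2, 3, 4, 4, 3, 3, 2, 1, 0, 1, 0, 2, 4, 3, 0, 4, 0, 2, 1, 1, 2, 0, 0, 2, 4, 4, 4, 2, 4, 0, 2, 1, 4, 4, 2, 1, 0, 1, 1, 3, 4, 3, 0, 0, 4, 0, 3, 2, 3, 3, 0, 0, 2, 1, 2, 2, 4, 0, 0, 1, 1, 2, 2, 4, 1, 0, 2, 0, 1, 0, 0, 0, 0, 1, 1, 1, 2, 2, 4, 0, 3, 1, 4, 2, 0, 1, 2, 2, 2, 0, 2, 2, 0, 3, 1, 0, 1, 2],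
      [4, 2, 0, 2, 1, 4, 1, 3, 0, 2, 4, 2, 0, 2, 1, 2, 1, 1, 1, 3, 4, 2, 0, 3, 2, 4, 4, 3, 0, 3, 0, 0, 4, 1, 4, 2, 0, 0, 1, 3, 1, 3, 1, 2, 3, 0, 2, 2, 3, 4, 1, 0, 2, 3, 3, 1, 2, 2, 3, 4, 1, 0, 3, 2, 2, 3, 3, 3, 1, 2, 0, 4, 2, 2, 3, 3, 0, 4, 3, 1, 0, 0, 0, 1, 4, 4, 2, 4, 4, 3, 0, 4, 4, 1, 3, 4, 1, 2, 4, 1, 1, 2, 3, 3, 0, 1, 1, 2, 4, 1, 2],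
      [1, 2, 4, 1, 3, 3, 0, 2, 2, 1, 0, 1, 2, 0, 3, 3, 4, 4, 2, 4, 3, 0, 3, 2, 0, 1, 1, 0, 3, 1, 2, 3, 3, 1, 4, 1, 1, 2, 1, 1, 3, 1, 1, 4, 2, 2, 0, 3, 4, 0, 3, 2, 0, 4, 4, 3, 3, 4, 4, 4, 1, 1, 0, 2, 3, 1, 4, 3, 1, 4, 4, 4, 2, 0, 1, 2, 4, 1, 0, 3, 3, 3, 1, 2, 3, 0, 0, 2, 1, 2, 4, 1, 1, 1, 4, 0, 0, 4, 0, 0, 0, 4, 4, 1, 0, 2, 2, 2, 0, 3, 4],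
      [4, 3, 0, 2, 3, 3, 3, 3, 2, 3, 3, 1, 4, 4, 2, 3, 2, 3, 2, 1, 4, 4, 1, 3, 1, 0, 3, 1, 2, 3, 4, 3, 0, 3, 2, 1, 3, 4, 4, 4, 4, 2, 2, 1, 0, 4, 2, 3, 3, 3, 4, 0, 1, 2, 1, 2, 2, 0, 4, 3, 1, 0, 4, 0, 0, 1, 2, 3, 2, 0, 4, 0, 1, 4, 0, 4, 4, 2, 4, 1, 3, 1, 0, 0, 0, 0, 2, 1, 4, 1, 1, 4, 2, 2, 1, 0, 4, 3, 3, 0, 3, 0, 4, 0, 4, 0, 4, 1, 2, 3, 2],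
      [3, 3, 1, 4, 2, 4, 2, 1, 2, 0, 4, 4, 0, 0, 2, 1, 4, 2, 2, 4, 0, 3, 2, 3, 0, 2, 3, 1, 1, 3, 4, 2, 2, 0, 4, 1, 1, 4, 2, 1, 2, 4, 0, 3, 1, 2, 0, 3, 3, 3, 0, 3, 2, 2, 3, 0, 0, 1, 1, 4, 0, 4, 2, 0, 3, 4, 0, 4, 3, 4, 3, 0, 2, 0, 4, 0, 4, 3, 2, 0, 3, 2, 1, 2, 1, 2, 0, 2, 2, 3, 4, 1, 3, 4, 3, 1, 4, 1, 4, 0, 2, 2, 2, 4, 2, 2, 2, 0, 3, 4, 2],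
      [0, 4, 0, 0, 1, 1, 1, 1, 4, 4, 3, 0, 1, 2, 1, 0, 0, 3, 4, 2, 4, 0, 1, 4, 4, 1, 2, 4, 2, 2, 0, 0, 2, 2, 0, 1, 4, 2, 0, 1, 0, 0, 0, 1, 1, 3, 1, 0, 1, 3, 1, 2, 1, 3, 4, 3, 0, 4, 1, 3, 0, 3, 1, 4, 3, 0, 1, 1, 0, 2, 4, 0, 3, 3, 4, 2, 1, 0, 0, 3, 2, 0, 3, 0, 4, 3, 4, 4, 3, 3, 4, 1, 2, 3, 4, 3, 2, 1, 0, 0, 1, 4, 2, 3, 4, 1, 4, 1, 3, 0, 2],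
      [0, 2, 1, 0, 3, 1, 2, 1, 4, 3, 4, 0, 4, 4, 2, 1, 0, 4, 4, 1, 0, 2, 1, 1, 1, 1, 3, 0, 4, 1, 3, 4, 3, 2, 4, 4, 1, 2, 0, 2, 3, 4, 2, 4, 0, 1, 2, 2, 1, 0, 4, 4, 1, 1, 1, 4, 2, 1, 0, 4, 1, 1, 2, 0, 2, 2, 2, 3, 4, 4, 4, 1, 4, 4, 2, 0, 0, 1, 3, 1, 3, 3, 1, 1, 0, 1, 1, 1, 3, 1, 4, 2, 3, 2, 0, 0, 4, 2, 1, 0, 3, 0, 2, 2, 3, 0, 4, 3, 4, 4, 1],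
      [0, 4, 1, 1, 2, 1, 2, 1, 3, 3, 4, 4, 1, 2, 4, 4, 2, 2, 2, 1, 2, 1, 1, 2, 2, 3, 0, 1, 1, 1, 2, 2, 4, 1, 1, 4, 0, 1, 3, 0, 1, 4, 4, 1, 3, 1, 2, 2, 4, 3, 4, 4, 2, 2, 1, 2, 4, 2, 0, 2, 2, 0, 0, 0, 1, 3, 2, 2, 0, 2, 2, 0, 4, 1, 0, 3, 0, 0, 3, 1, 0, 1, 0, 1, 3, 0, 2, 2, 1, 0, 3, 1, 2, 0, 4, 3, 0, 1, 2, 4, 2, 2, 2, 3, 2, 1, 4, 2, 4, 3, 2],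
      [3, 2, 1, 1, 3, 2, 4, 0, 0, 4, 0, 3, 0, 3, 4, 1, 1, 2, 0, 3, 4, 2, 0, 1, 1, 2, 3, 4, 2, 0, 1, 3, 1, 3, 3, 0, 4, 3, 1, 0, 3, 3, 2, 1, 2, 2, 1, 3, 2, 1, 0, 3, 0, 3, 0, 4, 0, 2, 0, 4, 4, 3, 1, 4, 2, 1, 0, 3, 3, 2, 0, 0, 3, 1, 4, 2, 0, 0, 1, 0, 3, 2, 3, 1, 3, 3, 0, 0, 3, 2, 4, 3, 3, 2, 3, 1, 2, 4, 1, 0, 1, 0, 4, 0, 0, 3, 2, 2, 2, 3, 3],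
      [0, 4, 4, 4, 1, 1, 0, 2, 1, 2, 0, 1, 4, 2, 2, 2, 4, 2, 3, 1, 4, 0, 2, 1, 1, 1, 1, 2, 4, 2, 1, 1, 4, 1, 3, 4, 2, 2, 4, 1, 1, 2, 4, 0, 3, 1, 4, 4, 2, 4, 3, 4, 0, 0, 1, 3, 0, 0, 2, 0, 1, 3, 2, 3, 3, 0, 1, 0, 3, 0, 1, 4, 2, 1, 4, 4, 1, 1, 2, 0, 0, 0, 4, 1, 1, 3, 1, 2, 3, 4, 2, 1, 1, 0, 2, 4, 2, 3, 2, 0, 2, 3, 3, 3, 4, 0, 3, 0, 4, 3, 0],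
      [0, 4, 0, 1, 0, 2, 3, 4, 2, 2, 0, 0, 1, 2, 1, 1, 4, 4, 2, 3, 3, 4, 4, 0, 0, 0, 2, 3, 3, 2, 3, 1, 1, 1, 4, 2, 3, 0, 3, 1, 2, 2, 0, 1, 2, 1, 3, 3, 1, 2, 1, 4, 0, 3, 2, 0, 2, 4, 0, 0, 1, 0, 3, 1, 2, 4, 0, 0, 4, 2, 0, 1, 3, 1, 3, 3, 4, 0, 2, 4, 4, 3, 3, 4, 1, 1, 3, 2, 1, 4, 4, 1, 1, 4, 2, 0, 1, 0, 2, 1, 3, 4, 0, 1, 4, 4, 3, 1, 2, 2, 1],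
      [4, 2, 4, 2, 4, 3, 0, 4, 1, 0, 0, 3, 4, 1, 0, 2, 3, 3, 3, 4, 0, 3, 0, 2, 3, 4, 2, 1, 3, 0, 1, 2, 1, 4, 1, 2, 1, 0, 1, 2, 4, 4, 2, 4, 0, 3, 0, 1, 1, 0, 2, 3, 4, 4, 3, 0, 3, 0, 0, 2, 3, 3, 3, 4, 0, 1, 0, 4, 3, 2, 1, 3, 3, 0, 2, 4, 1, 1, 1, 4, 4, 2, 1, 3, 0, 2, 0, 0, 1, 2, 3, 4, 1, 3, 0, 3, 1, 0, 1, 0, 2, 1, 4, 0, 2, 1, 4, 4, 1, 3, 1],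
      [2, 0, 2, 1, 4, 0, 4, 0, 4, 0, 0, 4, 4, 4, 2, 2, 3, 3, 4, 0, 3, 0, 2, 4, 4, 1, 3, 1, 1, 4, 0, 1, 1, 2, 1, 0, 1, 2, 2, 0, 2, 3, 2, 3, 0, 3, 1, 2, 4, 2, 1, 3, 2, 2, 4, 1, 1, 4, 1, 0, 3, 3, 0, 4, 1, 0, 2, 4, 3, 2, 0, 3, 1, 2, 1, 3, 2, 2, 1, 0, 2, 3, 1, 3, 1, 3, 0, 3, 3, 3, 1, 4, 3, 2, 4, 0, 0, 3, 0, 0, 2, 4, 3, 3, 4, 1, 2, 0, 3, 2, 1],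
      [3, 0, 0, 0, 0, 2, 4, 2, 4, 4, 2, 3, 3, 4, 4, 1, 3, 3, 1, 1, 3, 2, 1, 0, 2, 1, 2, 1, 4, 4, 0, 0, 0, 0, 0, 2, 2, 2, 0, 3, 2, 4, 3, 1, 4, 4, 2, 4, 3, 0, 2, 1, 0, 1, 0, 4, 4, 4, 0, 2, 0, 0, 2, 4, 1, 2, 1, 4, 0, 0, 0, 0, 4, 3, 4, 2, 4, 4, 3, 2, 2, 3, 4, 3, 1, 1, 0, 1, 0, 4, 4, 4, 3, 0, 4, 2, 2, 3, 0, 2, 1, 2, 0, 2, 2, 4, 2, 3, 3, 1, 4],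
      [1, 1, 4, 0, 2, 4, 4, 4, 1, 0, 4, 4, 2, 1, 4, 2, 0, 4, 0, 1, 0, 3, 4, 2, 3, 0, 2, 4, 3, 1, 3, 1, 4, 1, 2, 0, 0, 0, 3, 2, 1, 3, 4, 0, 2, 0, 3, 2, 1, 4, 3, 3, 0, 3, 2, 1, 1, 2, 3, 2, 2, 2, 3, 0, 3, 1, 4, 1, 3, 4, 1, 3, 1, 0, 1, 4, 2, 1, 2, 3, 0, 2, 4, 3, 3, 4, 4, 0, 2, 0, 2, 4, 3, 4, 2, 0, 2, 2, 4, 3, 3, 2, 1, 3, 1, 1, 2, 3, 2, 0, 1],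
      [2, 3, 1, 3, 2, 2, 0, 4, 0, 2, 0, 2, 1, 0, 1, 2, 4, 1, 3, 4, 2, 2, 0, 4, 0, 3, 1, 0, 3, 2, 2, 2, 4, 3, 1, 4, 0, 4, 4, 1, 3, 4, 4, 0, 2, 0, 3, 3, 3, 2, 4, 3, 1, 2, 1, 4, 0, 0, 4, 3, 4, 3, 3, 4, 4, 3, 4, 3, 3, 3, 0, 2, 4, 3, 3, 3, 4, 3, 1, 0, 2, 1, 1, 4, 2, 4, 2, 4, 3, 3, 3, 2, 2, 4, 0, 2, 1, 1, 1, 1, 4, 1, 3, 2, 2, 3, 4, 1, 3, 1, 4],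
      [4, 2, 3, 4, 4, 3, 4, 4, 2, 3, 2, 3, 2, 4, 3, 3, 0, 3, 4, 2, 1, 2, 4, 4, 3, 0, 3, 0, 2, 2, 2, 4, 1, 4, 1, 3, 4, 3, 4, 0, 0, 0, 1, 2, 0, 2, 2, 3, 2, 2, 4, 2, 0, 3, 2, 3, 2, 2, 0, 1, 3, 0, 4, 3, 4, 3, 0, 0, 1, 2, 2, 2, 3, 0, 0, 1, 2, 2, 2, 2, 2, 2, 3, 3, 1, 2, 3, 3, 3, 3, 3, 0, 4, 1, 3, 4, 4, 2, 1, 3, 3, 3, 4, 3, 1, 2, 4, 0, 3, 1, 1],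
      [0, 0, 2, 3, 4, 1, 0, 2, 0, 1, 3, 1, 3, 4, 3, 2, 1, 0, 0, 4, 4, 3, 4, 2, 3, 3, 4, 2, 0, 2, 2, 0, 3, 4, 2, 4, 4, 2, 3, 2, 0, 3, 3, 2, 2, 2, 2, 0, 1, 0, 0, 0, 2, 4, 2, 0, 0, 4, 1, 1, 3, 4, 3, 3, 2, 1, 1, 2, 1, 1, 3, 3, 0, 1, 2, 3, 0, 1, 0, 0, 2, 0, 1, 3, 4, 0, 4, 1, 3, 0, 3, 4, 1, 0, 1, 4, 3, 4, 2, 0, 3, 1, 2, 1, 3, 0, 3, 0, 4, 0, 1],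
      [0, 3, 0, 2, 2, 2, 3, 2, 0, 2, 0, 1, 0, 1, 0, 1, 4, 0, 0, 2, 2, 1, 4, 1, 3, 3, 1, 4, 1, 2, 3, 0, 3, 4, 4, 2, 1, 2, 4, 1, 3, 3, 4, 1, 4, 1, 1, 4, 0, 4, 2, 1, 0, 3, 2, 4, 0, 3, 4, 3, 2, 3, 3, 1, 4, 0, 4, 4, 0, 1, 2, 0, 3, 2, 4, 2, 1, 4, 2, 4, 2, 2, 0, 0, 3, 1, 0, 1, 3, 1, 2, 2, 2, 0, 3, 3, 0, 4, 2, 3, 4, 3, 4, 2, 0, 1, 2, 4, 3, 2, 3],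
      [4, 1, 1, 1, 3, 0, 4, 3, 2, 2, 0, 0, 4, 2, 0, 1, 2, 0, 4, 1, 1, 2, 0, 0, 0, 4, 4, 3, 2, 2, 2, 4, 2, 1, 0, 0, 3, 2, 4, 4, 1, 3, 4, 3, 2, 1, 1, 4, 3, 3, 0, 3, 0, 1, 1, 3, 1, 0, 2, 4, 4, 0, 0, 3, 4, 0, 4, 2, 4, 3, 1, 0, 4, 4, 3, 2, 1, 0, 0, 1, 2, 0, 4, 4, 2, 3, 0, 0, 0, 3, 0, 4, 2, 0, 1, 4, 3, 1, 3, 2, 2, 4, 1, 2, 1, 2, 3, 4, 2, 1, 3],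
      [3, 0, 2, 4, 2, 4, 0, 3, 4, 3, 1, 4, 2, 4, 2, 1, 1, 2, 0, 3, 3, 4, 1, 0, 3, 3, 2, 2, 2, 0, 0, 3, 3, 3, 2, 2, 3, 4, 2, 2, 0, 1, 2, 0, 4, 1, 2, 4, 2, 2, 4, 3, 0, 0, 0, 0, 2, 2, 3, 4, 4, 0, 0, 1, 1, 4, 4, 4, 1, 2, 4, 2, 2, 3, 1, 4, 4, 0, 1, 4, 1, 2, 1, 2, 1, 2, 4, 1, 3, 3, 3, 2, 4, 2, 4, 1, 4, 2, 1, 1, 2, 4, 2, 2, 4, 4, 4, 0, 0, 4, 4],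
      [4, 0, 1, 4, 0, 1, 1, 1, 3, 2, 4, 3, 0, 4, 4, 3, 1, 0, 1, 4, 0, 0, 2, 4, 2, 1, 2, 4, 1, 1, 2, 0, 1, 1, 1, 1, 1, 4, 2, 0, 4, 3, 1, 1, 1, 3, 0, 2, 1, 0, 0, 3, 3, 0, 2, 0, 2, 0, 2, 4, 0, 0, 3, 3, 3, 3, 4, 0, 2, 3, 2, 1, 4, 0, 3, 2, 3, 0, 3, 3, 2, 4, 2, 0, 0, 0, 1, 0, 1, 2, 3, 1, 3, 0, 0, 4, 2, 2, 4, 4, 1, 4, 0, 2, 2, 4, 3, 1, 1, 1, 4],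
      [3, 2, 4, 2, 0, 0, 0, 3, 0, 4, 1, 1, 2, 3, 4, 0, 2, 3, 4, 3, 0, 2, 3, 3, 0, 4, 1, 0, 0, 3, 0, 0, 4, 2, 2, 1, 2, 4, 3, 1, 1, 3, 0, 2, 0, 0, 4, 1, 3, 0, 0, 4, 2, 1, 2, 4, 0, 0, 4, 0, 2, 3, 0, 0, 1, 1, 2, 1, 0, 1, 0, 4, 0, 0, 3, 2, 4, 4, 1, 0, 4, 0, 0, 4, 3, 2, 0, 0, 3, 2, 3, 4, 0, 4, 0, 0, 2, 2, 4, 2, 3, 1, 3, 2, 2, 4, 1, 4, 2, 4, 2],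
      [3, 4, 2, 1, 3, 3, 0, 0, 1, 0, 0, 2, 4, 2, 0, 2, 0, 3, 3, 3, 4, 0, 4, 1, 1, 1, 2, 3, 2, 2, 0, 3, 1, 0, 3, 2, 0, 3, 3, 4, 3, 4, 2, 2, 4, 3, 4, 0, 0, 3, 3, 4, 3, 1, 1, 4, 1, 4, 4, 1, 1, 0, 3, 2, 0, 1, 0, 3, 1, 1, 2, 4, 3, 4, 0, 2, 2, 2, 2, 0, 1, 1, 1, 4, 3, 3, 2, 1, 3, 0, 3, 3, 3, 3, 3, 3, 4, 4, 4, 2, 2, 3, 3, 3, 1, 0, 4, 1, 0, 4, 4],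
      [2, 2, 0, 1, 4, 2, 4, 2, 4, 1, 2, 3, 0, 1, 1, 0, 2, 0, 1, 0, 0, 1, 4, 4, 2, 1, 4, 3, 1, 3, 0, 2, 3, 0, 2, 4, 4, 1, 1, 3, 1, 1, 2, 1, 2, 2, 4, 2, 1, 3, 3, 4, 3, 1, 2, 1, 1, 1, 0, 3, 1, 2, 3, 3, 4, 3, 4, 3, 3, 3, 3, 2, 2, 1, 3, 3, 2, 1, 4, 3, 0, 4, 4, 4, 1, 3, 2, 1, 1, 3, 0, 4, 4, 3, 0, 2, 0, 2, 2, 3, 3, 4, 1, 1, 4, 2, 1, 0, 0, 0, 3],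
      [2, 1, 3, 4, 3, 2, 2, 4, 1, 3, 3, 0, 3, 1, 2, 4, 2, 0, 3, 1, 2, 2, 3, 2, 3, 1, 3, 3, 2, 1, 1, 3, 2, 0, 4, 0, 1, 1, 2, 3, 4, 0, 3, 2, 3, 3, 0, 4, 3, 0, 3, 4, 2, 3, 3, 3, 3, 3, 1, 4, 4, 1, 3, 4, 0, 2, 2, 0, 2, 4, 4, 3, 1, 4, 3, 4, 1, 0, 2, 0, 3, 2, 2, 4, 1, 0, 3, 3, 0, 2, 0, 2, 1, 1, 4, 0, 4, 3, 3, 2, 4, 2, 0, 4, 1, 0, 4, 0, 0, 2, 1],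
      [3, 3, 2, 0, 2, 1, 3, 2, 1, 1, 2, 3, 2, 3, 2, 1, 2, 2, 0, 4, 0, 0, 1, 2, 2, 2, 0, 4, 0, 0, 4, 1, 2, 0, 1, 2, 3, 2, 4, 1, 4, 1, 0, 2, 4, 1, 0, 1, 1, 1, 2, 4, 4, 3, 4, 2, 1, 4, 3, 2, 4, 4, 0, 1, 4, 0, 1, 1, 1, 3, 3, 3, 3, 0, 1, 3, 4, 2, 3, 4, 2, 3, 3, 2, 1, 2, 3, 0, 2, 0, 3, 3, 0, 4, 0, 4, 0, 3, 2, 3, 3, 0, 1, 3, 2, 4, 1, 2, 4, 0, 4],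
      [1, 3, 3, 3, 2, 3, 3, 0, 2, 3, 0, 2, 0, 2, 1, 4, 4, 2, 3, 1, 2, 0, 4, 1, 3, 1, 3, 4, 2, 4, 0, 3, 4, 3, 3, 4, 2, 0, 4, 0, 4, 3, 4, 2, 3, 1, 2, 4, 0, 4, 1, 2, 0, 1, 3, 2, 1, 0, 2, 4, 0, 0, 4, 0, 1, 0, 0, 4, 0, 0, 3, 0, 0, 0, 3, 4, 2, 0, 4, 0, 4, 1, 0, 3, 1, 3, 2, 2, 0, 2, 0, 4, 4, 4, 1, 2, 4, 2, 1, 1, 0, 4, 3, 1, 4, 1, 4, 2, 4, 1, 2],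
      [1, 1, 3, 1, 2, 4, 3, 3, 0, 3, 4, 2, 0, 2, 4, 0, 4, 0, 2, 0, 3, 0, 3, 3, 0, 1, 0, 0, 0, 2, 2, 4, 0, 0, 2, 0, 0, 1, 2, 0, 0, 0, 4, 4, 4, 1, 3, 1, 4, 3, 2, 2, 1, 3, 4, 1, 3, 4, 4, 3, 4, 4, 4, 0, 0, 1, 4, 3, 0, 3, 2, 3, 4, 1, 3, 3, 4, 2, 0, 4, 1, 0, 2, 2, 4, 3, 0, 2, 3, 4, 1, 4, 1, 4, 1, 3, 2, 2, 3, 2, 3, 2, 3, 0, 4, 4, 3, 2, 2, 4, 1],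
      [1, 0, 0, 4, 0, 4, 1, 4, 1, 1, 1, 0, 1, 2, 0, 2, 1, 3, 0, 0, 0, 0, 2, 0, 3, 4, 4, 3, 4, 3, 1, 0, 1, 1, 1, 2, 4, 3, 1, 4, 3, 2, 0, 2, 3, 2, 0, 4, 1, 0, 1, 0, 1, 1, 0, 0, 1, 4, 1, 2, 3, 3, 0, 4, 2, 4, 0, 4, 3, 3, 4, 4, 3, 3, 1, 1, 2, 4, 0, 3, 2, 0, 3, 0, 1, 3, 0, 3, 0, 0, 4, 3, 0, 1, 3, 1, 4, 3, 1, 1, 2, 1, 2, 4, 1, 1, 2, 1, 3, 0, 0],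
      [2, 4, 1, 4, 2, 1, 0, 1, 3, 0, 4, 1, 0, 3, 0, 4, 0, 0, 3, 0, 1, 4, 0, 0, 0, 2, 0, 0, 4, 0, 0, 2, 4, 3, 2, 2, 2, 1, 4, 3, 2, 4, 4, 2, 2, 3, 3, 4, 2, 4, 4, 4, 0, 4, 1, 3, 1, 3, 2, 1, 2, 3, 4, 1, 4, 0, 4, 2, 0, 2, 0, 1, 1, 1, 4, 4, 1, 1, 0, 3, 2, 2, 1, 2, 0, 1, 1, 1, 1, 2, 2, 2, 3, 0, 0, 2, 0, 1, 2, 1, 2, 0, 1, 3, 2, 0, 4, 3, 0, 1, 3],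
      [4, 4, 2, 4, 2, 3, 1, 0, 4, 4, 4, 0, 3, 1, 0, 2, 3, 0, 4, 2, 3, 3, 1, 1, 4, 2, 4, 3, 3, 0, 4, 4, 3, 0, 0, 0, 3, 1, 0, 1, 1, 4, 3, 2, 0, 2, 0, 4, 2, 3, 0, 3, 4, 3, 3, 4, 1, 3, 2, 0, 3, 4, 2, 2, 1, 3, 4, 2, 3, 4, 0, 3, 1, 0, 3, 3, 4, 4, 3, 0, 2, 3, 4, 1, 2, 0, 1, 0, 2, 0, 1, 1, 1, 2, 0, 2, 4, 2, 3, 4, 3, 3, 1, 1, 0, 4, 4, 1, 4, 0, 1],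
      [1, 2, 0, 0, 4, 1, 3, 1, 3, 2, 1, 4, 4, 1, 0, 2, 3, 1, 1, 1, 2, 1, 0, 0, 1, 3, 0, 3, 0, 2, 0, 0, 2, 2, 4, 0, 0, 1, 4, 4, 4, 4, 2, 2, 3, 4, 3, 1, 3, 1, 2, 2, 3, 2, 1, 2, 0, 4, 4, 0, 1, 4, 1, 3, 4, 3, 1, 0, 1, 1, 4, 0, 1, 2, 3, 3, 0, 1, 1, 3, 4, 3, 4, 1, 1, 0, 4, 3, 1, 4, 1, 2, 1, 1, 3, 2, 1, 3, 0, 3, 1, 1, 4, 1, 0, 0, 3, 2, 4, 1, 1],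
      [3, 0, 4, 1, 4, 2, 4, 3, 4, 2, 0, 1, 2, 2, 3, 3, 1, 0, 0, 1, 4, 1, 2, 4, 1, 2, 0, 1, 4, 0, 0, 2, 4, 1, 2, 0, 2, 3, 2, 1, 4, 0, 3, 1, 3, 1, 1, 4, 0, 3, 3, 2, 2, 3, 0, 3, 4, 2, 3, 1, 0, 1, 4, 0, 4, 2, 2, 4, 0, 2, 4, 2, 2, 1, 1, 2, 3, 0, 1, 3, 0, 0, 2, 0, 1, 1, 4, 4, 0, 0, 4, 3, 4, 0, 3, 3, 0, 1, 0, 2, 0, 3, 1, 0, 3, 3, 1, 4, 3, 4, 0],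
      [0, 2, 4, 1, 4, 4, 1, 1, 0, 2, 0, 1, 3, 0, 0, 1, 4, 0, 2, 0, 2, 0, 0, 2, 0, 2, 3, 4, 1, 1, 2, 1, 0, 3, 3, 4, 1, 0, 2, 4, 2, 2, 0, 4, 3, 1, 0, 3, 4, 3, 4, 4, 2, 2, 4, 0, 4, 1, 2, 2, 4, 2, 0, 1, 2, 4, 1, 0, 1, 0, 1, 2, 1, 4, 1, 2, 1, 0, 4, 3, 4, 3, 4, 2, 1, 3, 3, 4, 3, 0, 2, 2, 3, 3, 4, 1, 0, 0, 1, 1, 1, 2, 3, 2, 3, 0, 0, 1, 2, 3, 2],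
      [1, 4, 1, 1, 3, 0, 1, 2, 2, 0, 3, 3, 2, 2, 0, 1, 4, 1, 0, 1, 1, 4, 2, 1, 3, 1, 2, 3, 0, 3, 2, 3, 3, 2, 0, 3, 4, 4, 4, 4, 1, 2, 2, 0, 2, 2, 3, 2, 3, 1, 3, 1, 3, 2, 1, 4, 3, 2, 0, 0, 4, 2, 4, 1, 2, 3, 3, 0, 2, 3, 0, 0, 2, 3, 2, 3, 3, 3, 2, 3, 1, 2, 1, 0, 2, 2, 0, 1, 4, 1, 0, 3, 1, 0, 0, 3, 4, 3, 2, 1, 0, 1, 1, 0, 3, 0, 2, 4, 1, 4, 0],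
      [1, 2, 0, 4, 4, 4, 4, 1, 4, 3, 1, 2, 1, 2, 4, 3, 2, 4, 0, 1, 4, 0, 0, 0, 0, 4, 0, 2, 2, 0, 4, 0, 3, 4, 3, 3, 0, 1, 4, 3, 0, 3, 4, 3, 2, 3, 3, 1, 3, 1, 3, 2, 1, 2, 4, 0, 2, 1, 2, 3, 4, 0, 0, 0, 3, 4, 0, 1, 3, 2, 4, 1, 0, 2, 0, 3, 3, 2, 1, 2, 3, 0, 1, 4, 4, 4, 2, 2, 4, 1, 4, 3, 0, 2, 3, 3, 2, 2, 0, 4, 4, 1, 4, 2, 0, 1, 0, 3, 2, 2, 4],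
      [2, 0, 2, 0, 2, 1, 1, 1, 0, 3, 4, 4, 2, 0, 2, 3, 3, 1, 0, 1, 4, 1, 3, 2, 3, 4, 4, 4, 4, 1, 3, 2, 4, 4, 3, 2, 1, 2, 4, 1, 0, 2, 0, 2, 4, 3, 1, 4, 3, 4, 0, 4, 3, 1, 2, 4, 4, 1, 3, 2, 3, 1, 3, 4, 1, 4, 1, 2, 3, 2, 0, 2, 1, 2, 1, 1, 3, 3, 3, 0, 1, 0, 4, 0, 2, 2, 0, 0, 2, 1, 0, 2, 0, 0, 4, 1, 0, 3, 0, 4, 0, 1, 0, 3, 3, 2, 2, 4, 0, 4, 2],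
      [0, 0, 1, 3, 3, 1, 4, 0, 4, 2, 1, 4, 1, 4, 1, 0, 0, 2, 4, 4, 4, 1, 3, 0, 1, 0, 1, 4, 4, 2, 1, 0, 1, 4, 2, 3, 4, 2, 2, 4, 3, 4, 2, 1, 4, 3, 0, 1, 4, 2, 2, 3, 2, 3, 2, 0, 4, 0, 4, 1, 0, 1, 3, 4, 2, 3, 1, 2, 3, 3, 0, 2, 3, 1, 1, 4, 3, 0, 3, 0, 3, 1, 3, 4, 2, 1, 1, 4, 3, 0, 4, 4, 2, 4, 2, 2, 3, 4, 2, 0, 4, 1, 2, 1, 0, 0, 4, 1, 0, 4, 4],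
      [4, 2, 0, 3, 2, 1, 1, 3, 3, 4, 2, 2, 1, 3, 3, 2, 3, 3, 3, 0, 3, 1, 0, 2, 2, 2, 4, 1, 1, 0, 0, 2, 4, 3, 2, 1, 3, 3, 0, 0, 3, 0, 0, 4, 2, 1, 0, 4, 1, 4, 2, 2, 0, 1, 3, 4, 3, 2, 1, 3, 3, 3, 4, 0, 3, 1, 1, 3, 4, 1, 3, 4, 2, 0, 3, 3, 4, 2, 2, 4, 2, 3, 0, 3, 1, 0, 4, 4, 4, 1, 0, 0, 2, 0, 3, 0, 0, 1, 3, 3, 0, 3, 4, 0, 3, 1, 0, 4, 0, 0, 3],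
      [2, 3, 2, 0, 0, 0, 3, 3, 1, 4, 3, 2, 4, 2, 2, 2, 1, 1, 1, 3, 3, 0, 0, 3, 2, 3, 3, 1, 1, 3, 3, 4, 1, 4, 3, 1, 2, 2, 0, 0, 4, 0, 3, 0, 0, 4, 3, 1, 1, 3, 3, 1, 4, 1, 0, 1, 0, 0, 2, 1, 2, 0, 1, 4, 1, 1, 2, 1, 4, 2, 3, 1, 1, 0, 1, 4, 2, 4, 3, 3, 1, 1, 4, 0, 1, 1, 1, 1, 0, 4, 1, 3, 1, 2, 4, 0, 4, 0, 1, 3, 1, 4, 1, 3, 0, 4, 1, 4, 2, 4, 0],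
      [4, 2, 0, 4, 4, 2, 0, 2, 1, 2, 2, 0, 1, 0, 2, 2, 2, 4, 2, 3, 2, 3, 3, 0, 3, 2, 2, 0, 0, 2, 0, 0, 0, 3, 1, 4, 4, 4, 4, 1, 0, 2, 1, 2, 1, 0, 0, 0, 3, 1, 3, 1, 1, 0, 1, 4, 2, 2, 0, 2, 1, 2, 2, 0, 3, 3, 4, 3, 1, 3, 3, 2, 1, 2, 0, 2, 3, 2, 1, 1, 0, 2, 3, 1, 0, 1, 4, 2, 3, 4, 0, 3, 3, 4, 3, 3, 1, 0, 1, 4, 4, 3, 2, 0, 1, 3, 4, 1, 4, 3, 4],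
      [0, 2, 2, 3, 3, 4, 1, 0, 0, 1, 1, 0, 3, 1, 1, 4, 2, 1, 0, 3, 4, 3, 4, 2, 2, 0, 3, 1, 0, 3, 1, 4, 0, 0, 2, 4, 1, 4, 3, 1, 2, 2, 1, 3, 2, 4, 4, 4, 4, 3, 2, 4, 0, 3, 2, 1, 3, 0, 2, 2, 4, 2, 2, 1, 3, 1, 3, 0, 4, 2, 2, 0, 3, 3, 2, 4, 4, 3, 4, 2, 1, 0, 4, 0, 2, 4, 3, 1, 3, 3, 2, 0, 3, 0, 2, 3, 4, 1, 1, 4, 0, 4, 1, 1, 3, 2, 4, 4, 0, 3, 2],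
      [2, 3, 1, 0, 4, 2, 1, 3, 3, 2, 0, 2, 0, 1, 2, 1, 1, 3, 2, 2, 0, 2, 1, 1, 1, 3, 3, 3, 2, 2, 0, 3, 2, 3, 1, 0, 4, 2, 0, 4, 2, 3, 2, 0, 2, 0, 4, 0, 4, 0, 4, 3, 0, 4, 1, 1, 2, 1, 3, 1, 4, 3, 0, 2, 3, 3, 2, 0, 0, 0, 3, 2, 1, 3, 2, 0, 4, 1, 2, 1, 3, 1, 3, 1, 1, 1, 2, 1, 0, 3, 0, 1, 1, 0, 1, 0, 3, 3, 3, 3, 2, 1, 2, 4, 4, 1, 4, 0, 3, 4, 2],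
      [1, 0, 2, 3, 0, 4, 4, 3, 1, 0, 0, 0, 1, 0, 2, 3, 1, 1, 0, 3, 3, 1, 0, 2, 2, 1, 4, 3, 1, 4, 3, 3, 3, 1, 4, 0, 0, 0, 4, 3, 3, 4, 1, 0, 0, 4, 2, 4, 0, 1, 2, 1, 3, 0, 2, 2, 4, 4, 0, 1, 0, 1, 3, 2, 2, 3, 2, 4, 4, 2, 2, 3, 2, 2, 1, 4, 4, 0, 3, 1, 3, 0, 4, 2, 2, 3, 2, 4, 2, 3, 2, 2, 1, 4, 0, 1, 4, 1, 1, 0, 4, 4, 1, 1, 4, 4, 3, 4, 4, 1, 4],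
      [2, 2, 3, 3, 3, 0, 4, 2, 0, 3, 1, 3, 4, 0, 4, 4, 0, 3, 4, 1, 0, 2, 4, 4, 3, 4, 1, 3, 3, 1, 4, 3, 1, 3, 2, 3, 0, 2, 3, 0, 1, 1, 4, 4, 3, 4, 2, 0, 2, 1, 3, 4, 2, 4, 1, 3, 3, 4, 0, 4, 1, 0, 0, 2, 2, 2, 3, 2, 2, 3, 1, 2, 3, 0, 2, 1, 1, 3, 4, 1, 3, 1, 2, 3, 1, 3, 2, 4, 4, 1, 1, 0, 4, 1, 0, 1, 0, 2, 1, 2, 3, 4, 1, 3, 2, 1, 3, 3, 1, 4, 2],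
      [4, 2, 1, 4, 0, 0, 3, 3, 3, 2, 1, 4, 3, 2, 2, 1, 0, 2, 0, 2, 4, 3, 4, 4, 3, 3, 3, 2, 4, 3, 3, 4, 2, 0, 4, 2, 1, 2, 3, 0, 1, 3, 2, 0, 4, 3, 2, 0, 1, 3, 2, 3, 2, 2, 3, 4, 4, 0, 3, 0, 1, 2, 3, 2, 1, 3, 1, 0, 4, 1, 2, 4, 3, 3, 1, 2, 2, 4, 0, 4, 1, 0, 2, 4, 1, 3, 3, 1, 1, 2, 2, 0, 1, 0, 4, 3, 3, 2, 4, 1, 4, 3, 3, 1, 3, 3, 0, 1, 4, 3, 3],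
      [2, 2, 4, 0, 4, 4, 1, 0, 2, 4, 2, 1, 3, 1, 2, 2, 3, 3, 0, 4, 0, 2, 2, 2, 0, 3, 3, 1, 2, 0, 1, 0, 0, 0, 3, 3, 3, 3, 2, 3, 2, 4, 4, 1, 2, 4, 3, 0, 3, 4, 4, 4, 1, 4, 4, 3, 3, 3, 0, 3, 1, 3, 4, 0, 2, 2, 1, 4, 0, 0, 4, 1, 3, 3, 3, 2, 0, 2, 3, 0, 3, 0, 4, 3, 4, 0, 3, 4, 0, 4, 1, 3, 2, 1, 1, 2, 3, 2, 0, 4, 2, 1, 3, 2, 4, 2, 1, 4, 0, 0, 2],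
      [4, 0, 3, 1, 3, 4, 3, 2, 1, 4, 1, 3, 1, 4, 4, 1, 1, 0, 4, 4, 4, 0, 3, 0, 1, 2, 3, 2, 1, 2, 0, 1, 4, 0, 0, 3, 0, 3, 3, 0, 0, 2, 3, 0, 0, 4, 0, 4, 1, 2, 0, 3, 4, 2, 3, 1, 4, 1, 0, 3, 4, 2, 3, 4, 0, 2, 2, 0, 3, 2, 2, 0, 0, 2, 1, 3, 3, 1, 4, 1, 1, 2, 4, 3, 3, 0, 1, 0, 1, 4, 4, 1, 3, 3, 4, 1, 2, 2, 1, 2, 4, 2, 3, 3, 1, 4, 2, 0, 4, 0, 2],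
      [3, 2, 3, 1, 4, 3, 3, 2, 0, 0, 3, 4, 1, 1, 0, 2, 3, 1, 1, 0, 1, 2, 2, 2, 1, 0, 4, 2, 0, 4, 1, 0, 4, 2, 4, 4, 1, 0, 2, 2, 2, 0, 0, 0, 2, 1, 1, 0, 1, 2, 3, 3, 3, 2, 1, 1, 1, 1, 3, 4, 2, 0, 2, 1, 2, 4, 0, 4, 0, 0, 3, 0, 4, 4, 1, 3, 1, 3, 3, 2, 0, 1, 3, 2, 4, 0, 3, 4, 1, 2, 4, 4, 0, 4, 4, 0, 4, 4, 3, 1, 2, 2, 1, 4, 4, 0, 3, 4, 4, 4, 2],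
      [4, 0, 4, 3, 3, 2, 3, 1, 2, 4, 0, 1, 2, 3, 0, 0, 0, 0, 2, 3, 4, 3, 4, 0, 1, 1, 3, 3, 1, 3, 4, 0, 3, 3, 1, 1, 2, 2, 1, 2, 1, 0, 3, 1, 4, 2, 0, 0, 4, 0, 4, 2, 0, 4, 3, 1, 2, 1, 0, 1, 3, 0, 1, 1, 4, 3, 1, 0, 3, 3, 1, 0, 3, 0, 4, 1, 1, 0, 0, 0, 1, 4, 2, 3, 2, 3, 2, 3, 4, 1, 3, 2, 4, 3, 0, 4, 4, 1, 1, 1, 0, 2, 4, 0, 4, 3, 3, 1, 0, 2, 2],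
      [0, 3, 1, 2, 0, 1, 4, 2, 2, 3, 2, 4, 4, 2, 1, 0, 3, 1, 0, 2, 1, 2, 3, 0, 1, 0, 4, 2, 3, 2, 2, 0, 3, 0, 2, 1, 2, 4, 2, 0, 4, 4, 1, 2, 3, 3, 4, 2, 0, 0, 0, 2, 1, 1, 2, 4, 2, 0, 3, 3, 2, 4, 2, 4, 4, 3, 1, 4, 3, 1, 0, 1, 4, 1, 0, 1, 0, 3, 2, 3, 0, 4, 1, 0, 2, 0, 2, 1, 2, 3, 4, 3, 1, 3, 1, 4, 0, 3, 3, 1, 1, 0, 1, 4, 4, 3, 0, 2, 2, 3, 4],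
      [1, 3, 2, 2, 0, 2, 3, 2, 0, 0, 1, 1, 0, 0, 3, 1, 2, 4, 1, 3, 3, 3, 2, 0, 1, 1, 3, 2, 1, 0, 1, 1, 0, 1, 0, 4, 2, 4, 1, 3, 4, 2, 4, 3, 2, 0, 0, 0, 3, 2, 4, 2, 0, 2, 2, 1, 4, 3, 3, 3, 3, 4, 3, 1, 2, 4, 0, 0, 0, 0, 1, 0, 1, 1, 4, 1, 4, 4, 0, 2, 2, 2, 4, 4, 3, 0, 3, 3, 3, 3, 3, 0, 4, 1, 3, 4, 3, 4, 4, 1, 4, 0, 3, 1, 3, 3, 0, 0, 1, 0, 4],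
      [1, 2, 0, 3, 4, 2, 0, 2, 2, 3, 3, 2, 0, 3, 3, 2, 4, 2, 3, 2, 3, 2, 4, 4, 1, 3, 4, 3, 4, 4, 2, 1, 4, 1, 4, 3, 2, 3, 1, 3, 2, 1, 1, 0, 2, 3, 4, 4, 0, 0, 2, 0, 4, 4, 4, 4, 3, 0, 1, 1, 4, 1, 2, 1, 1, 3, 2, 2, 3, 2, 2, 2, 2, 2, 0, 1, 0, 1, 3, 0, 0, 0, 4, 1, 1, 4, 1, 2, 2, 1, 0, 2, 2, 0, 0, 2, 0, 4, 4, 4, 2, 4, 1, 1, 3, 2, 1, 2, 0, 3, 2],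
      [3, 2, 2, 1, 1, 4, 3, 1, 0, 2, 3, 4, 1, 1, 0, 3, 2, 1, 4, 1, 1, 4, 0, 1, 3, 2, 1, 2, 0, 1, 3, 1, 2, 2, 3, 4, 1, 4, 2, 3, 1, 3, 2, 0, 2, 1, 4, 4, 1, 2, 1, 2, 4, 3, 0, 1, 3, 1, 4, 0, 2, 4, 1, 3, 3, 1, 3, 4, 3, 1, 0, 1, 1, 2, 3, 2, 1, 1, 2, 3, 2, 0, 4, 4, 3, 3, 2, 4, 3, 4, 0, 1, 3, 2, 2, 2, 3, 1, 2, 3, 1, 3, 3, 3, 2, 0, 2, 3, 3, 2, 1],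
      [3, 4, 3, 1, 2, 4, 1, 1, 0, 2, 2, 0, 1, 3, 2, 0, 1, 0, 0, 1, 1, 3, 2, 2, 2, 4, 2, 3, 2, 0, 4, 2, 4, 1, 1, 3, 0, 0, 0, 2, 1, 2, 4, 0, 1, 1, 4, 1, 0, 0, 4, 3, 1, 3, 4, 0, 3, 1, 3, 4, 1, 1, 1, 4, 3, 0, 4, 1, 1, 3, 0, 4, 4, 2, 1, 2, 2, 2, 4, 2, 3, 3, 3, 2, 3, 1, 2, 3, 1, 3, 1, 4, 2, 2, 3, 2, 2, 0, 2, 4, 0, 4, 3, 1, 3, 0, 2, 3, 0, 4, 2],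
      [1, 3, 4, 0, 2, 2, 3, 1, 1, 2, 4, 0, 0, 4, 2, 1, 1, 2, 1, 4, 2, 1, 0, 4, 4, 4, 4, 4, 2, 1, 3, 0, 2, 2, 0, 3, 0, 4, 3, 3, 1, 3, 0, 0, 3, 1, 3, 0, 0, 1, 1, 0, 0, 1, 1, 1, 4, 4, 1, 3, 4, 3, 2, 4, 0, 4, 4, 4, 0, 4, 0, 4, 4, 2, 4, 3, 4, 3, 1, 0, 4, 3, 2, 4, 1, 1, 1, 0, 1, 1, 4, 4, 3, 1, 2, 2, 2, 1, 3, 1, 0, 0, 0, 2, 2, 4, 3, 3, 0, 4, 3],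
      [4, 1, 3, 2, 3, 0, 2, 1, 2, 0, 1, 4, 3, 2, 1, 3, 3, 1, 3, 0, 0, 1, 1, 4, 4, 1, 4, 2, 3, 4, 1, 1, 2, 2, 4, 2, 0, 0, 4, 2, 0, 0, 3, 1, 1, 1, 3, 4, 4, 4, 3, 3, 2, 4, 0, 2, 2, 1, 3, 3, 0, 1, 0, 4, 3, 0, 3, 4, 0, 4, 1, 2, 2, 4, 0, 0, 1, 0, 3, 4, 0, 3, 0, 2, 1, 2, 4, 0, 4, 4, 0, 3, 3, 2, 0, 3, 2, 0, 2, 1, 1, 2, 4, 0, 2, 2, 0, 2, 3, 1, 2],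
      [3, 4, 4, 0, 3, 1, 0, 0, 4, 3, 0, 2, 0, 2, 0, 2, 4, 0, 2, 1, 2, 1, 4, 2, 1, 0, 4, 4, 0, 3, 2, 4, 0, 3, 0, 2, 0, 1, 1, 4, 2, 2, 4, 3, 0, 4, 4, 4, 2, 1, 3, 2, 4, 3, 2, 0, 0, 0, 1, 4, 3, 3, 1, 2, 3, 2, 0, 3, 4, 0, 3, 4, 1, 0, 0, 2, 3, 1, 0, 0, 0, 2, 1, 0, 4, 2, 2, 2, 4, 4, 0, 2, 4, 1, 0, 4, 1, 2, 1, 2, 3, 1, 4, 3, 3, 0, 4, 3, 4, 3, 0],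
      [1, 3, 1, 3, 1, 1, 4, 2, 2, 1, 0, 3, 4, 3, 0, 2, 4, 4, 3, 3, 1, 2, 0, 2, 4, 0, 0, 2, 0, 3, 0, 1, 1, 0, 2, 0, 1, 4, 0, 1, 3, 4, 4, 4, 4, 3, 4, 4, 4, 1, 0, 4, 3, 0, 1, 0, 0, 0, 2, 4, 0, 1, 4, 2, 2, 4, 1, 1, 1, 1, 3, 3, 2, 3, 0, 2, 2, 3, 3, 0, 4, 4, 3, 2, 1, 1, 1, 3, 4, 0, 1, 2, 1, 3, 1, 1, 3, 1, 4, 3, 2, 2, 2, 2, 0, 0, 2, 0, 1, 3, 3],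
      [3, 2, 4, 1, 3, 4, 0, 2, 3, 0, 1, 2, 2, 0, 2, 2, 3, 4, 1, 1, 1, 2, 2, 0, 4, 0, 0, 0, 0, 3, 1, 2, 2, 4, 4, 4, 3, 3, 1, 3, 2, 1, 4, 4, 3, 0, 3, 4, 0, 3, 0, 3, 4, 1, 2, 4, 0, 3, 0, 3, 2, 0, 3, 2, 1, 0, 0, 0, 0, 0, 1, 4, 1, 2, 4, 4, 0, 0, 3, 1, 4, 0, 1, 4, 0, 3, 2, 4, 1, 4, 4, 1, 2, 1, 0, 3, 4, 0, 2, 2, 0, 1, 4, 0, 2, 3, 4, 2, 3, 1, 1],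
      [1, 2, 0, 2, 4, 1, 2, 0, 2, 1, 2, 3, 4, 4, 3, 3, 0, 3, 0, 0, 0, 3, 0, 2, 4, 1, 1, 0, 3, 3, 3, 3, 1, 0, 3, 1, 0, 1, 4, 0, 3, 2, 1, 1, 1, 0, 0, 2, 0, 4, 4, 3, 2, 4, 4, 1, 2, 0, 4, 2, 0, 3, 4, 2, 1, 1, 3, 3, 4, 0, 4, 2, 0, 3, 4, 1, 0, 4, 1, 1, 1, 4, 0, 2, 3, 0, 1, 4, 0, 3, 0, 0, 4, 2, 3, 3, 4, 1, 3, 0, 0, 4, 3, 4, 2, 1, 4, 4, 0, 3, 4],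
      [3, 3, 3, 1, 1, 2, 1, 2, 4, 1, 4, 1, 0, 2, 0, 3, 2, 0, 1, 3, 1, 3, 3, 4, 4, 0, 3, 0, 0, 4, 1, 4, 1, 1, 1, 4, 3, 2, 4, 3, 0, 4, 0, 4, 2, 0, 2, 0, 3, 2, 2, 3, 0, 2, 2, 2, 1, 0, 1, 2, 1, 4, 0, 4, 0, 0, 3, 2, 2, 1, 4, 0, 1, 2, 3, 0, 4, 0, 1, 3, 1, 1, 2, 2, 2, 3, 2, 1, 4, 4, 1, 2, 1, 3, 1, 1, 2, 0, 4, 2, 3, 0, 0, 0, 3, 3, 3, 2, 1, 3, 0],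
      [0, 0, 3, 0, 2, 2, 3, 2, 0, 3, 3, 3, 3, 2, 4, 0, 4, 0, 3, 4, 4, 3, 2, 2, 1, 3, 3, 4, 3, 3, 1, 3, 0, 2, 3, 2, 2, 4, 2, 2, 2, 0, 3, 0, 0, 2, 3, 3, 3, 4, 3, 1, 1, 3, 2, 4, 1, 2, 0, 1, 2, 2, 1, 2, 3, 4, 0, 4, 4, 4, 0, 1, 4, 2, 2, 2, 1, 4, 1, 0, 4, 1, 3, 4, 0, 2, 3, 3, 0, 0, 0, 2, 1, 1, 2, 0, 0, 4, 3, 4, 1, 0, 0, 1, 4, 2, 0, 4, 3, 2, 2],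
      [2, 2, 2, 1, 2, 4, 2, 2, 0, 3, 2, 2, 2, 0, 1, 3, 4, 3, 0, 0, 2, 2, 3, 0, 2, 4, 3, 3, 0, 0, 1, 1, 3, 2, 3, 2, 2, 0, 4, 2, 1, 3, 1, 0, 4, 0, 4, 3, 3, 0, 1, 0, 1, 3, 0, 3, 4, 3, 0, 0, 2, 0, 3, 2, 1, 1, 2, 1, 2, 1, 2, 1, 4, 0, 3, 3, 4, 0, 2, 0, 3, 1, 2, 3, 3, 0, 4, 3, 3, 0, 3, 3, 0, 2, 1, 4, 0, 3, 0, 1, 4, 2, 1, 0, 1, 3, 4, 2, 4, 0, 0],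
      [0, 1, 3, 2, 1, 4, 1, 4, 3, 2, 4, 1, 4, 4, 1, 0, 0, 2, 3, 1, 1, 2, 3, 0, 0, 0, 1, 4, 1, 3, 0, 2, 3, 4, 3, 0, 0, 2, 3, 1, 1, 2, 1, 1, 2, 3, 0, 1, 1, 4, 4, 4, 3, 1, 1, 1, 2, 2, 3, 1, 4, 3, 1, 0, 4, 0, 1, 3, 4, 4, 0, 4, 2, 1, 1, 1, 1, 1, 4, 2, 3, 1, 2, 0, 1, 3, 2, 2, 4, 3, 4, 1, 0, 1, 3, 4, 2, 0, 4, 1, 2, 0, 0, 0, 2, 3, 0, 1, 1, 3, 3],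
      [1, 3, 0, 2, 4, 3, 4, 2, 0, 4, 3, 0, 2, 3, 3, 1, 2, 1, 3, 0, 4, 1, 4, 3, 4, 4, 3, 1, 1, 4, 2, 1, 0, 0, 2, 4, 0, 4, 1, 0, 0, 2, 3, 2, 2, 3, 0, 3, 3, 1, 2, 2, 3, 2, 4, 0, 0, 2, 1, 4, 1, 1, 4, 3, 0, 0, 3, 0, 2, 0, 3, 4, 1, 1, 4, 4, 0, 4, 3, 2, 4, 2, 2, 0, 4, 4, 3, 3, 1, 0, 0, 3, 2, 2, 3, 3, 4, 4, 1, 2, 1, 2, 0, 3, 1, 2, 4, 0, 1, 2, 4],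
      [3, 1, 0, 3, 3, 1, 4, 4, 1, 0, 0, 4, 1, 4, 1, 1, 4, 4, 0, 1, 3, 2, 2, 3, 2, 3, 1, 3, 3, 1, 4, 2, 0, 3, 4, 1, 2, 3, 0, 3, 3, 3, 2, 2, 0, 0, 0, 4, 2, 1, 2, 4, 3, 1, 2, 0, 3, 3, 4, 0, 4, 4, 3, 2, 0, 0, 2, 4, 2, 2, 2, 3, 2, 2, 4, 2, 1, 0, 1, 0, 1, 2, 4, 3, 4, 4, 1, 2, 4, 4, 3, 0, 4, 2, 2, 4, 3, 0, 3, 1, 0, 1, 2, 1, 2, 3, 3, 0, 3, 3, 0],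
      [4, 3, 1, 4, 3, 2, 3, 2, 1, 1, 2, 1, 0, 1, 3, 3, 3, 4, 2, 4, 2, 1, 4, 4, 0, 0, 2, 3, 4, 2, 3, 2, 0, 1, 4, 4, 4, 0, 3, 0, 1, 3, 4, 1, 4, 3, 3, 2, 3, 1, 0, 4, 4, 4, 2, 2, 4, 3, 2, 1, 3, 0, 1, 3, 1, 3, 2, 2, 3, 2, 1, 0, 2, 1, 0, 3, 3, 1, 1, 3, 3, 3, 0, 4, 0, 0, 1, 3, 1, 2, 2, 4, 3, 2, 0, 4, 3, 0, 0, 1, 3, 0, 3, 0, 1, 4, 4, 0, 0, 3, 3],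
      [1, 1, 2, 1, 2, 1, 4, 3, 4, 0, 1, 3, 0, 0, 0, 1, 1, 2, 3, 2, 4, 1, 4, 1, 1, 0, 2, 3, 0, 1, 2, 1, 2, 4, 4, 3, 3, 3, 4, 3, 1, 3, 1, 4, 4, 1, 1, 0, 4, 0, 4, 3, 2, 1, 2, 0, 3, 1, 4, 4, 0, 4, 2, 4, 0, 3, 3, 4, 1, 2, 1, 0, 1, 2, 3, 3, 3, 2, 3, 3, 0, 1, 0, 4, 2, 2, 4, 1, 2, 2, 0, 0, 0, 4, 4, 4, 3, 0, 1, 3, 2, 1, 3, 1, 4, 2, 4, 1, 0, 1, 4],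
      [2, 4, 2, 2, 4, 4, 2, 2, 1, 4, 2, 4, 0, 2, 1, 2, 3, 4, 2, 4, 1, 3, 0, 3, 1, 4, 0, 2, 1, 4, 4, 0, 2, 0, 3, 4, 3, 1, 3, 2, 1, 3, 2, 3, 2, 4, 0, 0, 1, 3, 0, 0, 3, 0, 1, 1, 4, 2, 4, 1, 0, 4, 1, 3, 3, 1, 2, 4, 4, 2, 4, 2, 2, 2, 1, 2, 0, 0, 0, 1, 0, 4, 4, 1, 3, 2, 0, 2, 1, 4, 4, 4, 4, 4, 1, 1, 3, 3, 0, 2, 3, 2, 0, 0, 3, 4, 0, 3, 1, 0, 2],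
      [2, 3, 1, 0, 2, 0, 4, 1, 4, 2, 2, 2, 0, 1, 1, 1, 1, 3, 0, 4, 1, 3, 4, 2, 2, 4, 0, 3, 2, 2, 1, 4, 1, 2, 2, 1, 2, 0, 2, 3, 4, 1, 4, 1, 0, 2, 0, 1, 3, 1, 3, 1, 0, 3, 3, 3, 3, 1, 0, 2, 3, 4, 1, 1, 0, 2, 3, 2, 0, 4, 1, 3, 3, 4, 1, 1, 4, 1, 0, 0, 3, 1, 4, 3, 1, 1, 2, 0, 0, 0, 0, 0, 0, 0, 3, 2, 3, 2, 1, 4, 0, 4, 1, 2, 0, 1, 3, 1, 0, 2, 4],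
      [3, 2, 0, 2, 4, 1, 1, 2, 2, 4, 1, 4, 3, 0, 3, 1, 0, 3, 0, 0, 3, 3, 0, 1, 1, 4, 4, 0, 2, 1, 0, 0, 4, 3, 1, 3, 3, 1, 3, 0, 3, 2, 4, 0, 3, 1, 1, 1, 4, 2, 2, 0, 2, 1, 3, 2, 1, 4, 4, 4, 3, 4, 0, 2, 2, 2, 1, 4, 1, 0, 3, 0, 2, 4, 0, 1, 2, 2, 0, 2, 1, 0, 3, 1, 2, 0, 0, 3, 0, 4, 3, 4, 0, 2, 4, 1, 4, 4, 1, 3, 3, 3, 1, 2, 4, 3, 1, 2, 3, 1, 1],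
      [4, 4, 1, 3, 4, 1, 3, 3, 2, 0, 3, 3, 0, 2, 1, 0, 4, 3, 0, 3, 3, 2, 3, 4, 2, 1, 3, 3, 0, 2, 0, 4, 0, 0, 1, 1, 1, 0, 3, 3, 4, 1, 1, 3, 2, 4, 1, 2, 0, 3, 1, 3, 0, 2, 0, 4, 2, 3, 4, 2, 1, 1, 2, 3, 3, 0, 3, 4, 2, 1, 0, 2, 3, 0, 0, 3, 3, 2, 1, 0, 0, 0, 0, 3, 3, 2, 1, 0, 0, 3, 0, 2, 2, 0, 3, 4, 2, 2, 4, 4, 3, 1, 0, 2, 2, 1, 2, 3, 4, 1, 3],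
      [3, 0, 3, 4, 2, 0, 4, 0, 0, 0, 1, 0, 2, 0, 4, 0, 1, 4, 4, 1, 3, 0, 2, 3, 3, 3, 3, 1, 3, 3, 1, 3, 0, 3, 1, 4, 0, 4, 3, 0, 1, 1, 2, 3, 2, 1, 0, 0, 0, 1, 1, 2, 3, 0, 1, 3, 0, 1, 1, 4, 1, 0, 0, 3, 0, 2, 4, 4, 3, 3, 1, 0, 4, 4, 0, 0, 0, 0, 0, 3, 3, 4, 4, 3, 4, 4, 2, 2, 4, 4, 4, 0, 3, 1, 0, 1, 0, 2, 3, 1, 1, 3, 2, 0, 4, 1, 4, 4, 0, 3, 3],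
      [4, 3, 4, 0, 4, 1, 4, 4, 4, 1, 3, 2, 3, 0, 1, 4, 1, 2, 3, 3, 1, 3, 1, 4, 2, 3, 0, 0, 4, 1, 2, 3, 4, 0, 3, 0, 2, 1, 3, 1, 3, 3, 3, 2, 1, 1, 3, 1, 0, 1, 3, 4, 3, 2, 4, 1, 2, 3, 1, 2, 4, 4, 3, 0, 4, 4, 2, 2, 3, 1, 0, 0, 1, 0, 0, 0, 4, 3, 4, 3, 0, 3, 1, 2, 3, 1, 3, 3, 2, 1, 1, 1, 1, 0, 1, 2, 0, 1, 4, 2, 3, 3, 3, 0, 4, 2, 0, 4, 3, 3, 3],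
      [1, 2, 1, 2, 4, 2, 1, 3, 1, 2, 3, 3, 4, 4, 1, 0, 1, 0, 2, 4, 2, 4, 4, 3, 1, 4, 0, 2, 0, 0, 4, 4, 1, 0, 2, 4, 4, 4, 0, 2, 4, 3, 3, 3, 3, 0, 4, 4, 2, 2, 0, 4, 3, 4, 4, 2, 3, 1, 2, 0, 4, 3, 3, 0, 2, 2, 3, 1, 0, 0, 4, 4, 2, 2, 3, 0, 3, 1, 1, 0, 4, 3, 4, 2, 2, 1, 1, 3, 0, 2, 0, 4, 3, 3, 0, 4, 0, 3, 0, 2, 2, 0, 2, 1, 3, 2, 2, 4, 4, 0, 3],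
      [0, 2, 3, 0, 1, 4, 4, 3, 2, 1, 3, 4, 1, 3, 1, 3, 1, 0, 3, 0, 3, 2, 4, 1, 3, 2, 3, 0, 1, 4, 2, 1, 4, 0, 0, 2, 4, 2, 0, 3, 0, 3, 2, 1, 2, 4, 0, 3, 2, 2, 2, 4, 4, 3, 3, 2, 3, 0, 2, 3, 1, 0, 0, 1, 4, 4, 1, 1, 0, 4, 2, 3, 4, 0, 3, 4, 1, 2, 3, 4, 2, 0, 0, 2, 4, 2, 4, 1, 1, 1, 2, 2, 0, 1, 1, 2, 1, 3, 3, 4, 0, 1, 4, 2, 4, 4, 1, 0, 4, 3, 4],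
      [1, 1, 3, 2, 1, 0, 2, 4, 2, 3, 4, 1, 3, 3, 0, 3, 4, 1, 2, 3, 3, 1, 1, 3, 0, 3, 2, 4, 2, 3, 0, 2, 3, 3, 1, 4, 1, 0, 2, 4, 3, 1, 1, 2, 0, 3, 2, 0, 3, 3, 3, 1, 1, 2, 3, 3, 0, 2, 1, 1, 0, 4, 3, 1, 3, 3, 0, 4, 0, 2, 2, 1, 3, 1, 4, 3, 1, 3, 3, 1, 4, 0, 0, 1, 4, 0, 3, 0, 2, 0, 0, 0, 4, 0, 1, 1, 0, 1, 0, 2, 3, 3, 3, 1, 2, 0, 0, 0, 2, 2, 1],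
      [4, 2, 2, 4, 3, 1, 1, 2, 1, 1, 1, 4, 3, 0, 4, 2, 3, 4, 2, 1, 3, 1, 4, 0, 3, 4, 2, 2, 0, 3, 3, 1, 3, 3, 4, 4, 3, 2, 0, 1, 1, 0, 2, 0, 3, 1, 3, 3, 0, 2, 3, 1, 3, 4, 1, 3, 3, 0, 2, 3, 0, 4, 4, 4, 2, 0, 2, 4, 2, 2, 3, 4, 2, 3, 1, 3, 3, 3, 2, 4, 0, 2, 0, 2, 0, 3, 2, 2, 4, 1, 1, 0, 0, 0, 0, 4, 3, 2, 3, 4, 1, 2, 3, 2, 2, 3, 2, 3, 2, 3, 0]],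
    [[0, 2, 1, 0, 1, 3, 3, 4, 0, 2, 3, 2, 1, 1, 1, 0, 4, 1, 1, 4, 3, 4, 1, 3, 1, 3, 0, 4, 2, 4, 2, 2, 2, 4, 0, 0, 4, 4, 3, 2, 1, 2, 0, 4, 1, 4, 0, 4, 1, 4, 1, 1, 2, 2, 2, 3, 2, 3, 2, 1, 2, 1, 4, 2, 3, 4, 2, 3, 3, 3, 4, 1, 1, 2, 1, 4, 0, 0, 4, 4, 3, 0, 2, 2, 3, 4, 4, 3, 4, 1, 0, 0, 0, 0, 0, 0, 0, 0, 0, 0, 0, 0, 0, 0, 0, 0, 0, 0, 0, 0, 0],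
      [4, 2, 0, 2, 1, 4, 1, 3, 0, 2, 4, 2, 0, 2, 1, 2, 1, 1, 1, 3, 4, 2, 0, 3, 2, 4, 4, 3, 0, 3, 0, 0, 4, 1, 4, 2, 0, 0, 1, 3, 1, 3, 1, 2, 3, 0, 2, 2, 3, 4, 1, 0, 2, 3, 3, 1, 2, 2, 3, 4, 1, 0, 3, 2, 2, 3, 3, 3, 1, 2, 0, 4, 2, 2, 3, 3, 0, 4, 3, 1, 0, 0, 0, 1, 4, 4, 2, 4, 4, 3, 0, 4, 4, 1, 3, 4, 1, 2, 4, 1, 1, 2, 3, 3, 0, 1, 1, 2, 4, 1, 2],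
      [1, 2, 4, 1, 3, 3, 0, 2, 2, 1, 0, 1, 2, 0, 3, 3, 4, 4, 2, 4, 3, 0, 3, 2, 0, 1, 1, 0, 3, 1, 2, 3, 3, 1, 4, 1, 1, 2, 1, 1, 3, 1, 1, 4, 2, 2, 0, 3, 4, 0, 3, 2, 0, 4, 4, 3, 3, 4, 4, 4, 1, 1, 0, 2, 3, 1, 4, 3, 1, 4, 4, 4, 2, 0, 1, 2, 4, 1, 0, 3, 3, 3, 1, 2, 3, 0, 0, 2, 1, 2, 4, 1, 1, 1, 4, 0, 0, 4, 0, 0, 0, 4, 4, 1, 0, 2, 2, 2, 0, 3, 4],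
      [4, 3, 0, 2, 3, 3, 3, 3, 2, 3, 3, 1, 4, 4, 2, 3, 2, 3, 2, 1, 4, 4, 1, 3, 1, 0, 3, 1, 2, 3, 4, 3, 0, 3, 2, 1, 3, 4, 4, 4, 4, 2, 2, 1, 0, 4, 2, 3, 3, 3, 4, 0, 1, 2, 1, 2, 2, 0, 4, 3, 1, 0, 4, 0, 0, 1, 2, 3, 2, 0, 4, 0, 1, 4, 0, 4, 4, 2, 4, 1, 3, 1, 0, 0, 0, 0, 2, 1, 4, 1, 1, 4, 2, 2, 1, 0, 4, 3, 3, 0, 3, 0, 4, 0, 4, 0, 4, 1, 2, 3, 2],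
      [3, 2, 1, 1, 3, 2, 4, 0, 0, 4, 0, 3, 0, 3, 4, 1, 1, 2, 0, 3, 4, 2, 0, 1, 1, 2, 3, 4, 2, 0, 1, 3, 1, 3, 3, 0, 4, 3, 1, 0, 3, 3, 2, 1, 2, 2, 1, 3, 2, 1, 0, 3, 0, 3, 0, 4, 0, 2, 0, 4, 4, 3, 1, 4, 2, 1, 0, 3, 3, 2, 0, 0, 3, 1, 4, 2, 0, 0, 1, 0, 3, 2, 3, 1, 3, 3, 0, 0, 3, 2, 4, 3, 3, 2, 3, 1, 2, 4, 1, 0, 1, 0, 4, 0, 0, 3, 2, 2, 2, 3, 3],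
      [0, 4, 4, 4, 1, 1, 0, 2, 1, 2, 0, 1, 4, 2, 2, 2, 4, 2, 3, 1, 4, 0, 2, 1, 1, 1, 1, 2, 4, 2, 1, 1, 4, 1, 3, 4, 2, 2, 4, 1, 1, 2, 4, 0, 3, 1, 4, 4, 2, 4, 3, 4, 0, 0, 1, 3, 0, 0, 2, 0, 1, 3, 2, 3, 3, 0, 1, 0, 3, 0, 1, 4, 2, 1, 4, 4, 1, 1, 2, 0, 0, 0, 4, 1, 1, 3, 1, 2, 3, 4, 2, 1, 1, 0, 2, 4, 2, 3, 2, 0, 2, 3, 3, 3, 4, 0, 3, 0, 4, 3, 0],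
      [0, 4, 0, 1, 0, 2, 3, 4, 2, 2, 0, 0, 1, 2, 1, 1, 4, 4, 2, 3, 3, 4, 4, 0, 0, 0, 2, 3, 3, 2, 3, 1, 1, 1, 4, 2, 3, 0, 3, 1, 2, 2, 0, 1, 2, 1, 3, 3, 1, 2, 1, 4, 0, 3, 2, 0, 2, 4, 0, 0, 1, 0, 3, 1, 2, 4, 0, 0, 4, 2, 0, 1, 3, 1, 3, 3, 4, 0, 2, 4, 4, 3, 3, 4, 1, 1, 3, 2, 1, 4, 4, 1, 1, 4, 2, 0, 1, 0, 2, 1, 3, 4, 0, 1, 4, 4, 3, 1, 2, 2, 1],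
      [2, 0, 2, 1, 4, 0, 4, 0, 4, 0, 0, 4, 4, 4, 2, 2, 3, 3, 4, 0, 3, 0, 2, 4, 4, 1, 3, 1, 1, 4, 0, 1, 1, 2, 1, 0, 1, 2, 2, 0, 2, 3, 2, 3, 0, 3, 1, 2, 4, 2, 1, 3, 2, 2, 4, 1, 1, 4, 1, 0, 3, 3, 0, 4, 1, 0, 2, 4, 3, 2, 0, 3, 1, 2, 1, 3, 2, 2, 1, 0, 2, 3, 1, 3, 1, 3, 0, 3, 3, 3, 1, 4, 3, 2, 4, 0, 0, 3, 0, 0, 2, 4, 3, 3, 4, 1, 2, 0, 3, 2, 1],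
      [3, 0, 0, 0, 0, 2, 4, 2, 4, 4, 2, 3, 3, 4, 4, 1, 3, 3, 1, 1, 3, 2, 1, 0, 2, 1, 2, 1, 4, 4, 0, 0, 0, 0, 0, 2, 2, 2, 0, 3, 2, 4, 3, 1, 4, 4, 2, 4, 3, 0, 2, 1, 0, 1, 0, 4, 4, 4, 0, 2, 0, 0, 2, 4, 1, 2, 1, 4, 0, 0, 0, 0, 4, 3, 4, 2, 4, 4, 3, 2, 2, 3, 4, 3, 1, 1, 0, 1, 0, 4, 4, 4, 3, 0, 4, 2, 2, 3, 0, 2, 1, 2, 0, 2, 2, 4, 2, 3, 3, 1, 4],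
      [1, 1, 4, 0, 2, 4, 4, 4, 1, 0, 4, 4, 2, 1, 4, 2, 0, 4, 0, 1, 0, 3, 4, 2, 3, 0, 2, 4, 3, 1, 3, 1, 4, 1, 2, 0, 0, 0, 3, 2, 1, 3, 4, 0, 2, 0, 3, 2, 1, 4, 3, 3, 0, 3, 2, 1, 1, 2, 3, 2, 2, 2, 3, 0, 3, 1, 4, 1, 3, 4, 1, 3, 1, 0, 1, 4, 2, 1, 2, 3, 0, 2, 4, 3, 3, 4, 4, 0, 2, 0, 2, 4, 3, 4, 2, 0, 2, 2, 4, 3, 3, 2, 1, 3, 1, 1, 2, 3, 2, 0, 1],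
      [2, 2, 0, 1, 4, 2, 4, 2, 4, 1, 2, 3, 0, 1, 1, 0, 2, 0, 1, 0, 0, 1, 4, 4, 2, 1, 4, 3, 1, 3, 0, 2, 3, 0, 2, 4, 4, 1, 1, 3, 1, 1, 2, 1, 2, 2, 4, 2, 1, 3, 3, 4, 3, 1, 2, 1, 1, 1, 0, 3, 1, 2, 3, 3, 4, 3, 4, 3, 3, 3, 3, 2, 2, 1, 3, 3, 2, 1, 4, 3, 0, 4, 4, 4, 1, 3, 2, 1, 1, 3, 0, 4, 4, 3, 0, 2, 0, 2, 2, 3, 3, 4, 1, 1, 4, 2, 1, 0, 0, 0, 3],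
      [2, 1, 3, 4, 3, 2, 2, 4, 1, 3, 3, 0, 3, 1, 2, 4, 2, 0, 3, 1, 2, 2, 3, 2, 3, 1, 3, 3, 2, 1, 1, 3, 2, 0, 4, 0, 1, 1, 2, 3, 4, 0, 3, 2, 3, 3, 0, 4, 3, 0, 3, 4, 2, 3, 3, 3, 3, 3, 1, 4, 4, 1, 3, 4, 0, 2, 2, 0, 2, 4, 4, 3, 1, 4, 3, 4, 1, 0, 2, 0, 3, 2, 2, 4, 1, 0, 3, 3, 0, 2, 0, 2, 1, 1, 4, 0, 4, 3, 3, 2, 4, 2, 0, 4, 1, 0, 4, 0, 0, 2, 1],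
      [1, 3, 3, 3, 2, 3, 3, 0, 2, 3, 0, 2, 0, 2, 1, 4, 4, 2, 3, 1, 2, 0, 4, 1, 3, 1, 3, 4, 2, 4, 0, 3, 4, 3, 3, 4, 2, 0, 4, 0, 4, 3, 4, 2, 3, 1, 2, 4, 0, 4, 1, 2, 0, 1, 3, 2, 1, 0, 2, 4, 0, 0, 4, 0, 1, 0, 0, 4, 0, 0, 3, 0, 0, 0, 3, 4, 2, 0, 4, 0, 4, 1, 0, 3, 1, 3, 2, 2, 0, 2, 0, 4, 4, 4, 1, 2, 4, 2, 1, 1, 0, 4, 3, 1, 4, 1, 4, 2, 4, 1, 2],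
      [1, 1, 3, 1, 2, 4, 3, 3, 0, 3, 4, 2, 0, 2, 4, 0, 4, 0, 2, 0, 3, 0, 3, 3, 0, 1, 0, 0, 0, 2, 2, 4, 0, 0, 2, 0, 0, 1, 2, 0, 0, 0, 4, 4, 4, 1, 3, 1, 4, 3, 2, 2, 1, 3, 4, 1, 3, 4, 4, 3, 4, 4, 4, 0, 0, 1, 4, 3, 0, 3, 2, 3, 4, 1, 3, 3, 4, 2, 0, 4, 1, 0, 2, 2, 4, 3, 0, 2, 3, 4, 1, 4, 1, 4, 1, 3, 2, 2, 3, 2, 3, 2, 3, 0, 4, 4, 3, 2, 2, 4, 1],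
      [1, 0, 0, 4, 0, 4, 1, 4, 1, 1, 1, 0, 1, 2, 0, 2, 1, 3, 0, 0, 0, 0, 2, 0, 3, 4, 4, 3, 4, 3, 1, 0, 1, 1, 1, 2, 4, 3, 1, 4, 3, 2, 0, 2, 3, 2, 0, 4, 1, 0, 1, 0, 1, 1, 0, 0, 1, 4, 1, 2, 3, 3, 0, 4, 2, 4, 0, 4, 3, 3, 4, 4, 3, 3, 1, 1, 2, 4, 0, 3, 2, 0, 3, 0, 1, 3, 0, 3, 0, 0, 4, 3, 0, 1, 3, 1, 4, 3, 1, 1, 2, 1, 2, 4, 1, 1, 2, 1, 3, 0, 0],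
      [0, 2, 4, 1, 4, 4, 1, 1, 0, 2, 0, 1, 3, 0, 0, 1, 4, 0, 2, 0, 2, 0, 0, 2, 0, 2, 3, 4, 1, 1, 2, 1, 0, 3, 3, 4, 1, 0, 2, 4, 2, 2, 0, 4, 3, 1, 0, 3, 4, 3, 4, 4, 2, 2, 4, 0, 4, 1, 2, 2, 4, 2, 0, 1, 2, 4, 1, 0, 1, 0, 1, 2, 1, 4, 1, 2, 1, 0, 4, 3, 4, 3, 4, 2, 1, 3, 3, 4, 3, 0, 2, 2, 3, 3, 4, 1, 0, 0, 1, 1, 1, 2, 3, 2, 3, 0, 0, 1, 2, 3, 2],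
      [1, 4, 1, 1, 3, 0, 1, 2, 2, 0, 3, 3, 2, 2, 0, 1, 4, 1, 0, 1, 1, 4, 2, 1, 3, 1, 2, 3, 0, 3, 2, 3, 3, 2, 0, 3, 4, 4, 4, 4, 1, 2, 2, 0, 2, 2, 3, 2, 3, 1, 3, 1, 3, 2, 1, 4, 3, 2, 0, 0, 4, 2, 4, 1, 2, 3, 3, 0, 2, 3, 0, 0, 2, 3, 2, 3, 3, 3, 2, 3, 1, 2, 1, 0, 2, 2, 0, 1, 4, 1, 0, 3, 1, 0, 0, 3, 4, 3, 2, 1, 0, 1, 1, 0, 3, 0, 2, 4, 1, 4, 0],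
      [3, 2, 3, 1, 4, 3, 3, 2, 0, 0, 3, 4, 1, 1, 0, 2, 3, 1, 1, 0, 1, 2, 2, 2, 1, 0, 4, 2, 0, 4, 1, 0, 4, 2, 4, 4, 1, 0, 2, 2, 2, 0, 0, 0, 2, 1, 1, 0, 1, 2, 3, 3, 3, 2, 1, 1, 1, 1, 3, 4, 2, 0, 2, 1, 2, 4, 0, 4, 0, 0, 3, 0, 4, 4, 1, 3, 1, 3, 3, 2, 0, 1, 3, 2, 4, 0, 3, 4, 1, 2, 4, 4, 0, 4, 4, 0, 4, 4, 3, 1, 2, 2, 1, 4, 4, 0, 3, 4, 4, 4, 2],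
      [4, 0, 4, 3, 3, 2, 3, 1, 2, 4, 0, 1, 2, 3, 0, 0, 0, 0, 2, 3, 4, 3, 4, 0, 1, 1, 3, 3, 1, 3, 4, 0, 3, 3, 1, 1, 2, 2, 1, 2, 1, 0, 3, 1, 4, 2, 0, 0, 4, 0, 4, 2, 0, 4, 3, 1, 2, 1, 0, 1, 3, 0, 1, 1, 4, 3, 1, 0, 3, 3, 1, 0, 3, 0, 4, 1, 1, 0, 0, 0, 1, 4, 2, 3, 2, 3, 2, 3, 4, 1, 3, 2, 4, 3, 0, 4, 4, 1, 1, 1, 0, 2, 4, 0, 4, 3, 3, 1, 0, 2, 2],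
      [0, 3, 1, 2, 0, 1, 4, 2, 2, 3, 2, 4, 4, 2, 1, 0, 3, 1, 0, 2, 1, 2, 3, 0, 1, 0, 4, 2, 3, 2, 2, 0, 3, 0, 2, 1, 2, 4, 2, 0, 4, 4, 1, 2, 3, 3, 4, 2, 0, 0, 0, 2, 1, 1, 2, 4, 2, 0, 3, 3, 2, 4, 2, 4, 4, 3, 1, 4, 3, 1, 0, 1, 4, 1, 0, 1, 0, 3, 2, 3, 0, 4, 1, 0, 2, 0, 2, 1, 2, 3, 4, 3, 1, 3, 1, 4, 0, 3, 3, 1, 1, 0, 1, 4, 4, 3, 0, 2, 2, 3, 4],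
      [1, 3, 4, 0, 2, 2, 3, 1, 1, 2, 4, 0, 0, 4, 2, 1, 1, 2, 1, 4, 2, 1, 0, 4, 4, 4, 4, 4, 2, 1, 3, 0, 2, 2, 0, 3, 0, 4, 3, 3, 1, 3, 0, 0, 3, 1, 3, 0, 0, 1, 1, 0, 0, 1, 1, 1, 4, 4, 1, 3, 4, 3, 2, 4, 0, 4, 4, 4, 0, 4, 0, 4, 4, 2, 4, 3, 4, 3, 1, 0, 4, 3, 2, 4, 1, 1, 1, 0, 1, 1, 4, 4, 3, 1, 2, 2, 2, 1, 3, 1, 0, 0, 0, 2, 2, 4, 3, 3, 0, 4, 3],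
      [4, 1, 3, 2, 3, 0, 2, 1, 2, 0, 1, 4, 3, 2, 1, 3, 3, 1, 3, 0, 0, 1, 1, 4, 4, 1, 4, 2, 3, 4, 1, 1, 2, 2, 4, 2, 0, 0, 4, 2, 0, 0, 3, 1, 1, 1, 3, 4, 4, 4, 3, 3, 2, 4, 0, 2, 2, 1, 3, 3, 0, 1, 0, 4, 3, 0, 3, 4, 0, 4, 1, 2, 2, 4, 0, 0, 1, 0, 3, 4, 0, 3, 0, 2, 1, 2, 4, 0, 4, 4, 0, 3, 3, 2, 0, 3, 2, 0, 2, 1, 1, 2, 4, 0, 2, 2, 0, 2, 3, 1, 2],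
      [3, 4, 4, 0, 3, 1, 0, 0, 4, 3, 0, 2, 0, 2, 0, 2, 4, 0, 2, 1, 2, 1, 4, 2, 1, 0, 4, 4, 0, 3, 2, 4, 0, 3, 0, 2, 0, 1, 1, 4, 2, 2, 4, 3, 0, 4, 4, 4, 2, 1, 3, 2, 4, 3, 2, 0, 0, 0, 1, 4, 3, 3, 1, 2, 3, 2, 0, 3, 4, 0, 3, 4, 1, 0, 0, 2, 3, 1, 0, 0, 0, 2, 1, 0, 4, 2, 2, 2, 4, 4, 0, 2, 4, 1, 0, 4, 1, 2, 1, 2, 3, 1, 4, 3, 3, 0, 4, 3, 4, 3, 0],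
      [3, 2, 0, 2, 4, 1, 1, 2, 2, 4, 1, 4, 3, 0, 3, 1, 0, 3, 0, 0, 3, 3, 0, 1, 1, 4, 4, 0, 2, 1, 0, 0, 4, 3, 1, 3, 3, 1, 3, 0, 3, 2, 4, 0, 3, 1, 1, 1, 4, 2, 2, 0, 2, 1, 3, 2, 1, 4, 4, 4, 3, 4, 0, 2, 2, 2, 1, 4, 1, 0, 3, 0, 2, 4, 0, 1, 2, 2, 0, 2, 1, 0, 3, 1, 2, 0, 0, 3, 0, 4, 3, 4, 0, 2, 4, 1, 4, 4, 1, 3, 3, 3, 1, 2, 4, 3, 1, 2, 3, 1, 1],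
      [4, 4, 1, 3, 4, 1, 3, 3, 2, 0, 3, 3, 0, 2, 1, 0, 4, 3, 0, 3, 3, 2, 3, 4, 2, 1, 3, 3, 0, 2, 0, 4, 0, 0, 1, 1, 1, 0, 3, 3, 4, 1, 1, 3, 2, 4, 1, 2, 0, 3, 1, 3, 0, 2, 0, 4, 2, 3, 4, 2, 1, 1, 2, 3, 3, 0, 3, 4, 2, 1, 0, 2, 3, 0, 0, 3, 3, 2, 1, 0, 0, 0, 0, 3, 3, 2, 1, 0, 0, 3, 0, 2, 2, 0, 3, 4, 2, 2, 4, 4, 3, 1, 0, 2, 2, 1, 2, 3, 4, 1, 3],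
      [3, 0, 3, 4, 2, 0, 4, 0, 0, 0, 1, 0, 2, 0, 4, 0, 1, 4, 4, 1, 3, 0, 2, 3, 3, 3, 3, 1, 3, 3, 1, 3, 0, 3, 1, 4, 0, 4, 3, 0, 1, 1, 2, 3, 2, 1, 0, 0, 0, 1, 1, 2, 3, 0, 1, 3, 0, 1, 1, 4, 1, 0, 0, 3, 0, 2, 4, 4, 3, 3, 1, 0, 4, 4, 0, 0, 0, 0, 0, 3, 3, 4, 4, 3, 4, 4, 2, 2, 4, 4, 4, 0, 3, 1, 0, 1, 0, 2, 3, 1, 1, 3, 2, 0, 4, 1, 4, 4, 0, 3, 3],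
      [4, 2, 2, 4, 3, 1, 1, 2, 1, 1, 1, 4, 3, 0, 4, 2, 3, 4, 2, 1, 3, 1, 4, 0, 3, 4, 2, 2, 0, 3, 3, 1, 3, 3, 4, 4, 3, 2, 0, 1, 1, 0, 2, 0, 3, 1, 3, 3, 0, 2, 3, 1, 3, 4, 1, 3, 3, 0, 2, 3, 0, 4, 4, 4, 2, 0, 2, 4, 2, 2, 3, 4, 2, 3, 1, 3, 3, 3, 2, 4, 0, 2, 0, 2, 0, 3, 2, 2, 4, 1, 1, 0, 0, 0, 0, 4, 3, 2, 3, 4, 1, 2, 3, 2, 2, 3, 2, 3, 2, 3, 0]],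
    [[0, 2, 1, 0, 1, 3, 3, 4, 0, 2, 3, 2, 1, 1, 1, 0, 4, 1, 1, 4, 3, 4, 1, 3, 1, 3, 0, 4, 2, 4, 2, 2, 2, 4, 0, 0, 4, 4, 3, 2, 1, 2, 0, 4, 1, 4, 0, 4, 1, 4, 1, 1, 2, 2, 2, 3, 2, 3, 2, 1, 2, 1, 4, 2, 3, 4, 2, 3, 3, 3, 4, 1, 1, 2, 1, 4, 0, 0, 4, 4, 3, 0, 2, 2, 3, 4, 4, 3, 4, 1, 0, 0, 0, 0, 0, 0, 0, 0, 0, 0, 0, 0, 0, 0, 0, 0, 0, 0, 0, 0, 0],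
      [1, 2, 4, 1, 3, 3, 0, 2, 2, 1, 0, 1, 2, 0, 3, 3, 4, 4, 2, 4, 3, 0, 3, 2, 0, 1, 1, 0, 3, 1, 2, 3, 3, 1, 4, 1, 1, 2, 1, 1, 3, 1, 1, 4, 2, 2, 0, 3, 4, 0, 3, 2, 0, 4, 4, 3, 3, 4, 4, 4, 1, 1, 0, 2, 3, 1, 4, 3, 1, 4, 4, 4, 2, 0, 1, 2, 4, 1, 0, 3, 3, 3, 1, 2, 3, 0, 0, 2, 1, 2, 4, 1, 1, 1, 4, 0, 0, 4, 0, 0, 0, 4, 4, 1, 0, 2, 2, 2, 0, 3, 4],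
      [4, 3, 0, 2, 3, 3, 3, 3, 2, 3, 3, 1, 4, 4, 2, 3, 2, 3, 2, 1, 4, 4, 1, 3, 1, 0, 3, 1, 2, 3, 4, 3, 0, 3, 2, 1, 3, 4, 4, 4, 4, 2, 2, 1, 0, 4, 2, 3, 3, 3, 4, 0, 1, 2, 1, 2, 2, 0, 4, 3, 1, 0, 4, 0, 0, 1, 2, 3, 2, 0, 4, 0, 1, 4, 0, 4, 4, 2, 4, 1, 3, 1, 0, 0, 0, 0, 2, 1, 4, 1, 1, 4, 2, 2, 1, 0, 4, 3, 3, 0, 3, 0, 4, 0, 4, 0, 4, 1, 2, 3, 2],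
      [2, 0, 2, 1, 4, 0, 4, 0, 4, 0, 0, 4, 4, 4, 2, 2, 3, 3, 4, 0, 3, 0, 2, 4, 4, 1, 3, 1, 1, 4, 0, 1, 1, 2, 1, 0, 1, 2, 2, 0, 2, 3, 2, 3, 0, 3, 1, 2, 4, 2, 1, 3, 2, 2, 4, 1, 1, 4, 1, 0, 3, 3, 0, 4, 1, 0, 2, 4, 3, 2, 0, 3, 1, 2, 1, 3, 2, 2, 1, 0, 2, 3, 1, 3, 1, 3, 0, 3, 3, 3, 1, 4, 3, 2, 4, 0, 0, 3, 0, 0, 2, 4, 3, 3, 4, 1, 2, 0, 3, 2, 1],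
      [3, 0, 0, 0, 0, 2, 4, 2, 4, 4, 2, 3, 3, 4, 4, 1, 3, 3, 1, 1, 3, 2, 1, 0, 2, 1, 2, 1, 4, 4, 0, 0, 0, 0, 0, 2, 2, 2, 0, 3, 2, 4, 3, 1, 4, 4, 2, 4, 3, 0, 2, 1, 0, 1, 0, 4, 4, 4, 0, 2, 0, 0, 2, 4, 1, 2, 1, 4, 0, 0, 0, 0, 4, 3, 4, 2, 4, 4, 3, 2, 2, 3, 4, 3, 1, 1, 0, 1, 0, 4, 4, 4, 3, 0, 4, 2, 2, 3, 0, 2, 1, 2, 0, 2, 2, 4, 2, 3, 3, 1, 4],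
      [1, 1, 4, 0, 2, 4, 4, 4, 1, 0, 4, 4, 2, 1, 4, 2, 0, 4, 0, 1, 0, 3, 4, 2, 3, 0, 2, 4, 3, 1, 3, 1, 4, 1, 2, 0, 0, 0, 3, 2, 1, 3, 4, 0, 2, 0, 3, 2, 1, 4, 3, 3, 0, 3, 2, 1, 1, 2, 3, 2, 2, 2, 3, 0, 3, 1, 4, 1, 3, 4, 1, 3, 1, 0, 1, 4, 2, 1, 2, 3, 0, 2, 4, 3, 3, 4, 4, 0, 2, 0, 2, 4, 3, 4, 2, 0, 2, 2, 4, 3, 3, 2, 1, 3, 1, 1, 2, 3, 2, 0, 1],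
      [0, 2, 4, 1, 4, 4, 1, 1, 0, 2, 0, 1, 3, 0, 0, 1, 4, 0, 2, 0, 2, 0, 0, 2, 0, 2, 3, 4, 1, 1, 2, 1, 0, 3, 3, 4, 1, 0, 2, 4, 2, 2, 0, 4, 3, 1, 0, 3, 4, 3, 4, 4, 2, 2, 4, 0, 4, 1, 2, 2, 4, 2, 0, 1, 2, 4, 1, 0, 1, 0, 1, 2, 1, 4, 1, 2, 1, 0, 4, 3, 4, 3, 4, 2, 1, 3, 3, 4, 3, 0, 2, 2, 3, 3, 4, 1, 0, 0, 1, 1, 1, 2, 3, 2, 3, 0, 0, 1, 2, 3, 2],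
      [1, 4, 1, 1, 3, 0, 1, 2, 2, 0, 3, 3, 2, 2, 0, 1, 4, 1, 0, 1, 1, 4, 2, 1, 3, 1, 2, 3, 0, 3, 2, 3, 3, 2, 0, 3, 4, 4, 4, 4, 1, 2, 2, 0, 2, 2, 3, 2, 3, 1, 3, 1, 3, 2, 1, 4, 3, 2, 0, 0, 4, 2, 4, 1, 2, 3, 3, 0, 2, 3, 0, 0, 2, 3, 2, 3, 3, 3, 2, 3, 1, 2, 1, 0, 2, 2, 0, 1, 4, 1, 0, 3, 1, 0, 0, 3, 4, 3, 2, 1, 0, 1, 1, 0, 3, 0, 2, 4, 1, 4, 0],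
      [3, 4, 4, 0, 3, 1, 0, 0, 4, 3, 0, 2, 0, 2, 0, 2, 4, 0, 2, 1, 2, 1, 4, 2, 1, 0, 4, 4, 0, 3, 2, 4, 0, 3, 0, 2, 0, 1, 1, 4, 2, 2, 4, 3, 0, 4, 4, 4, 2, 1, 3, 2, 4, 3, 2, 0, 0, 0, 1, 4, 3, 3, 1, 2, 3, 2, 0, 3, 4, 0, 3, 4, 1, 0, 0, 2, 3, 1, 0, 0, 0, 2, 1, 0, 4, 2, 2, 2, 4, 4, 0, 2, 4, 1, 0, 4, 1, 2, 1, 2, 3, 1, 4, 3, 3, 0, 4, 3, 4, 3, 0]],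
    [[0, 2, 1, 0, 1, 3, 3, 4, 0, 2, 3, 2, 1, 1, 1, 0, 4, 1, 1, 4, 3, 4, 1, 3, 1, 3, 0, 4, 2, 4, 2, 2, 2, 4, 0, 0, 4, 4, 3, 2, 1, 2, 0, 4, 1, 4, 0, 4, 1, 4, 1, 1, 2, 2, 2, 3, 2, 3, 2, 1, 2, 1, 4, 2, 3, 4, 2, 3, 3, 3, 4, 1, 1, 2, 1, 4, 0, 0, 4, 4, 3, 0, 2, 2, 3, 4, 4, 3, 4, 1, 0, 0, 0, 0, 0, 0, 0, 0, 0, 0, 0, 0, 0, 0, 0, 0, 0, 0, 0, 0, 0],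
      [4, 3, 0, 2, 3, 3, 3, 3, 2, 3, 3, 1, 4, 4, 2, 3, 2, 3, 2, 1, 4, 4, 1, 3, 1, 0, 3, 1, 2, 3, 4, 3, 0, 3, 2, 1, 3, 4, 4, 4, 4, 2, 2, 1, 0, 4, 2, 3, 3, 3, 4, 0, 1, 2, 1, 2, 2, 0, 4, 3, 1, 0, 4, 0, 0, 1, 2, 3, 2, 0, 4, 0, 1, 4, 0, 4, 4, 2, 4, 1, 3, 1, 0, 0, 0, 0, 2, 1, 4, 1, 1, 4, 2, 2, 1, 0, 4, 3, 3, 0, 3, 0, 4, 0, 4, 0, 4, 1, 2, 3, 2],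
      [1, 1, 4, 0, 2, 4, 4, 4, 1, 0, 4, 4, 2, 1, 4, 2, 0, 4, 0, 1, 0, 3, 4, 2, 3, 0, 2, 4, 3, 1, 3, 1, 4, 1, 2, 0, 0, 0, 3, 2, 1, 3, 4, 0, 2, 0, 3, 2, 1, 4, 3, 3, 0, 3, 2, 1, 1, 2, 3, 2, 2, 2, 3, 0, 3, 1, 4, 1, 3, 4, 1, 3, 1, 0, 1, 4, 2, 1, 2, 3, 0, 2, 4, 3, 3, 4, 4, 0, 2, 0, 2, 4, 3, 4, 2, 0, 2, 2, 4, 3, 3, 2, 1, 3, 1, 1, 2, 3, 2, 0, 1]],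
    [[0, 2, 1, 0, 1, 3, 3, 4, 0, 2, 3, 2, 1, 1, 1, 0, 4, 1, 1, 4, 3, 4, 1, 3, 1, 3, 0, 4, 2, 4, 2, 2, 2, 4, 0, 0, 4, 4, 3, 2, 1, 2, 0, 4, 1, 4, 0, 4, 1, 4, 1, 1, 2, 2, 2, 3, 2, 3, 2, 1, 2, 1, 4, 2, 3, 4, 2, 3, 3, 3, 4, 1, 1, 2, 1, 4, 0, 0, 4, 4, 3, 0, 2, 2, 3, 4, 4, 3, 4, 1, 0, 0, 0, 0, 0, 0, 0, 0, 0, 0, 0, 0, 0, 0, 0, 0, 0, 0, 0, 0, 0]],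
    [[1, 0, 0, 0, 0, 0, 0, 0, 0, 0, 0, 0, 0, 0, 0, 0, 0, 0, 0, 0, 0, 0, 0, 0, 0, 0, 0, 0, 0, 0, 0, 0, 0, 0, 0, 0, 0, 0, 0, 0, 0, 0, 0, 0, 0, 0, 0, 0, 0, 0, 0, 0, 0, 0, 0, 0, 0, 0, 0, 0, 0, 0, 0, 0, 0, 0, 0, 0, 0, 0, 0, 0, 0, 0, 0, 0, 0, 0, 0, 0, 0, 0, 0, 0, 0, 0, 0, 0, 0, 0, 0, 0, 0, 0, 0, 0, 0, 0, 0, 0, 0, 0, 0, 0, 0, 0, 0, 0, 0, 0, 0]]]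

end H46.LySchur
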