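import Cfsg.Agent.H46.Ly.Cert
import Cfsg.Agent.H46.Ly.SchurData3

/-! Kernel check of the certificate for the prime 3. -/

set_option autoImplicit false
set_option maxRecDepth 100000
set_option maxHeartbeats 0
set_option exponentiation.threshold 300
set_option Elab.async false

namespace H46.LySchur

open H97.SchurCert

theorem mat3 : matOK data3 prog3 pos3 vecs3 = true := by decide +kernel

theorem defs3 : defsOK data3 = true := by decide +kernel

theorem pc3 : pcOK data3 = true := by decide +kernel

theorem combos3 : combosOK data3 = true := by decide +kernel

end H46.LySchur
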