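import Cfsg.Agent.H97.SchurCertDefs

/-! A certificate that 5 does not divide the multiplier of the Lyons group (generated data). -/

set_option autoImplicit false
set_option maxRecDepth 20000

namespace H46.LySchur

open H97.SchurCert

def data5 : Data where
  p := 5
  n := 6
  syms := [0, 0, 0, 0, 0, 0, 0, 0, 0, 0]
  rules := [
    ([0, 0, 0, 0, 0], []), ([1, 1, 1, 1, 1], []), ([2, 2, 2, 2, 2], []), ([3, 3, 3, 3, 3], []),
    ([4, 4, 4, 4, 4], []), ([5, 5, 5, 5, 5], []), ([1, 0], [0, 1, 2]), ([2, 0], [0, 2, 3]),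
    ([2, 1], [1, 2]), ([3, 0], [0, 3, 4]), ([3, 1], [1, 3, 5]), ([3, 2], [2, 3, 5, 5, 5, 5]),
    ([4, 0], [0, 4]), ([4, 1], [1, 4, 5]), ([4, 2], [2, 4]), ([4, 3], [3, 4]),
    ([5, 0], [0, 5]), ([5, 1], [1, 5]), ([5, 2], [2, 5]), ([5, 3], [3, 5]),
    ([5, 4], [4, 5]), ([6, 1], [2, 2, 3, 3, 3, 5, 6]), ([6, 2, 3, 3, 3, 3], [1, 6]), ([6, 3, 4, 4, 4, 5], [1, 1, 2, 2, 2, 2, 3, 3, 5, 5, 5, 6]),
    ([6, 4, 5, 5, 5], [1, 1, 2, 3, 3, 4, 4, 4, 5, 5, 5, 5, 6]), ([6, 5], [5, 5, 5, 6]), ([7, 0], [0, 7]), ([7, 1], [1, 1, 7]),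
    ([7, 2, 3, 3, 3, 3], [2, 2, 3, 3, 3, 5, 7]), ([7, 3, 4, 4, 4, 5], [3, 3, 4, 5, 5, 5, 7]), ([7, 4, 5, 5, 5], [4, 4, 5, 5, 7]), ([7, 5], [5, 5, 5, 5, 7]),
    ([8, 0], [0, 8]), ([9, 0], [2, 3, 4, 4, 4, 4, 5, 5, 5, 5, 9]), ([9, 2, 3, 3, 3, 3], [0, 3, 3, 4, 4, 4, 5, 5, 5, 9]), ([9, 3, 4, 4, 4, 5], [3, 3, 3, 3, 5, 5, 9]),
    ([9, 4, 5, 5, 5], [4, 4, 4, 5, 9]), ([9, 5], [4, 9])]
  defs := [(6, 2), (7, 3), (9, 4), (13, 5)]
  targets := [0, 1, 2, 3, 4, 5, 8, 10, 11, 12, 14, 15, 16, 17, 18, 19, 20]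
  paths := [
    ([2, 1, 0], [(0, 8, true), (1, 7, true), (0, 6, true), (5, 5, false), (3, 11, false), (4, 18, false), (1, 8, false), (2, 10, false), (0, 7, false), (1, 6, false)]),
    ([3, 1, 0], [(0, 10, true), (2, 16, true), (1, 9, true), (0, 6, true), (5, 5, false), (4, 20, false), (5, 20, false), (6, 20, false), (7, 20, false), (2, 11, false), (3, 14, false), (4, 18, false), (5, 18, false), (3, 20, false), (1, 10, false), (2, 13, false), (0, 9, false), (1, 6, false)]),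
    ([3, 2, 0], [(0, 11, true), (5, 16, true), (4, 16, true), (3, 16, true), (2, 16, true), (1, 9, true), (0, 7, true), (3, 15, false), (4, 19, false), (5, 19, false), (6, 19, false), (7, 19, false), (3, 20, false), (4, 20, false), (5, 20, false), (6, 20, false), (1, 11, false), (2, 14, false), (0, 9, false), (1, 7, false)]),
    ([3, 2, 1], [(0, 11, true), (5, 17, true), (4, 17, true), (3, 17, true), (2, 17, true), (1, 10, true), (0, 8, true), (3, 5, true), (3, 5, false), (1, 11, false), (2, 18, false), (0, 10, false), (1, 8, false)]),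
    ([4, 1, 0], [(0, 13, true), (2, 16, true), (1, 12, true), (0, 6, true), (2, 14, false), (3, 18, false), (1, 13, false), (0, 12, false), (1, 6, false)]),
    ([4, 2, 0], [(0, 14, true), (1, 12, true), (0, 7, true), (2, 15, false), (1, 14, false), (0, 12, false), (1, 7, false)]),
    ([4, 2, 1], [(0, 14, true), (1, 13, true), (0, 8, true), (1, 14, false), (2, 18, false), (0, 13, false), (1, 8, false)]),
    ([4, 3, 1], [(0, 15, true), (1, 13, true), (0, 10, true), (2, 20, true), (1, 15, false), (2, 19, false), (0, 13, false), (1, 10, false)]),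
    ([4, 3, 2], [(0, 15, true), (1, 14, true), (0, 11, true), (5, 20, true), (4, 20, true), (3, 20, true), (2, 20, true), (1, 15, false), (0, 14, false), (1, 11, false)]),
    ([1, 1, 1, 1, 1, 0], [(0, 1, true), (1, 2, false), (1, 1, false), (5, 8, false), (6, 8, false), (7, 8, false), (8, 8, false), (4, 8, false), (5, 8, false), (6, 8, false), (3, 8, false), (4, 8, false), (2, 8, false), (0, 6, false), (1, 6, false), (2, 6, false), (3, 6, false), (4, 6, false)]),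
    ([1, 0, 0, 0, 0, 0], [(0, 6, true), (2, 7, true), (1, 6, true), (5, 9, true), (4, 7, true), (3, 7, true), (2, 6, true), (6, 11, true), (11, 19, true), (10, 19, true), (9, 19, true), (8, 19, true), (12, 19, true), (11, 19, true), (10, 19, true), (9, 19, true), (13, 20, true), (12, 20, true), (11, 20, true), (10, 20, true), (14, 16, true), (13, 16, true), (12, 16, true), (11, 16, true), (10, 12, true), (9, 9, true), (8, 9, true), (7, 9, true), (6, 7, true), (5, 7, true), (4, 7, true), (3, 6, true), (7, 11, true), (12, 19, true), (11, 19, true), (10, 19, true), (9, 19, true), (13, 18, true), (12, 18, true), (11, 18, true), (10, 18, true), (9, 11, true), (8, 11, true), (13, 19, true), (12, 19, true), (11, 19, true), (10, 19, true), (11, 5, true), (11, 5, true), (12, 19, true), (11, 19, true), (13, 19, true), (12, 19, true), (14, 20, true), (13, 20, true), (15, 19, true), (14, 19, true), (13, 15, true), (9, 3, true), (11,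 20, true), (10, 20, true), (12, 19, true), (11, 19, true), (10, 15, true), (9, 15, true), (13, 20, true), (12, 20, true), (14, 20, true), (13, 20, true), (14, 5, true), (14, 16, true), (13, 12, true), (12, 12, true), (11, 12, true), (10, 12, true), (9, 9, true), (8, 7, true), (7, 7, true), (6, 7, true), (5, 7, true), (4, 6, true), (0, 0, true), (3, 11, true), (8, 19, true), (7, 19, true), (6, 19, true), (5, 19, true), (9, 18, true), (8, 18, true), (7, 18, true), (6, 18, true), (5, 11, true), (4, 11, true), (9, 19, true), (8, 19, true), (7, 19, true), (6, 19, true), (7, 5, true), (7, 5, true), (8, 19, true), (7, 19, true), (9, 18, true), (8, 18, true), (7, 11, true), (6, 11, true), (5, 11, true), (1, 2, true), (5, 19, true), (4, 19, true), (3, 19, true), (2, 19, true), (3, 5, true), (5, 19, true), (4, 19, true), (3, 19, true), (4, 5, true), (7, 19, true), (6, 19, true), (5, 19, true), (4, 19, true), (8, 19, true), (7, 19,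 true), (6, 19, true), (5, 19, true), (1, 3, true), (4, 20, true), (3, 20, true), (2, 20, true), (1, 20, true), (5, 20, true), (4, 20, true), (3, 20, true), (2, 20, true), (6, 20, true), (5, 20, true), (4, 20, true), (3, 20, true), (7, 20, true), (6, 20, true), (5, 20, true), (4, 20, true), (8, 20, true), (7, 20, true), (6, 20, true), (5, 20, true), (1, 4, true), (1, 5, true), (1, 0, false)]),
    ([2, 2, 2, 2, 2, 0], [(0, 2, true), (1, 3, false), (5, 5, false), (5, 5, false), (4, 19, false), (5, 19, false), (4, 5, false), (3, 19, false), (4, 19, false), (5, 19, false), (3, 5, false), (2, 19, false), (3, 19, false), (4, 19, false), (5, 19, false), (1, 2, false), (5, 11, false), (6, 11, false), (7, 11, false), (8, 11, false), (9, 18, false), (10, 18, false), (11, 18, false), (12, 18, false), (8, 19, false), (9, 19, false), (10, 19, false), (11, 19, false), (8, 5, false), (7, 19, false), (8, 19, false), (9, 19, false), (7,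 5, false), (6, 19, false), (7, 19, false), (8, 19, false), (9, 19, false), (4, 11, false), (5, 11, false), (6, 11, false), (7, 18, false), (8, 18, false), (6, 19, false), (7, 19, false), (6, 5, false), (6, 5, false), (5, 19, false), (6, 19, false), (7, 19, false), (8, 19, false), (3, 11, false), (4, 11, false), (5, 18, false), (6, 18, false), (7, 18, false), (8, 18, false), (4, 19, false), (5, 19, false), (6, 19, false), (7, 19, false), (2, 11, false), (0, 7, false), (1, 7, false), (2, 7, false), (3, 7, false), (4, 7, false)]),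
    ([2, 0, 0, 0, 0, 0], [(0, 7, true), (2, 9, true), (1, 7, true), (5, 12, true), (4, 9, true), (3, 9, true), (2, 7, true), (6, 15, true), (9, 12, true), (8, 12, true), (7, 12, true), (6, 9, true), (5, 9, true), (4, 9, true), (3, 7, true), (7, 15, true), (9, 15, true), (8, 15, true), (9, 4, true), (9, 12, true), (8, 9, true), (7, 9, true), (6, 9, true), (5, 9, true), (4, 7, true), (0, 0, true), (3, 15, true), (5, 15, true), (4, 15, true), (7, 15, true), (6, 15, true), (5, 15, true), (1, 3, true), (1, 4, true), (1, 0, false)]),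
    ([6, 1, 1, 1, 1, 1], [(0, 21, true), (6, 21, true), (12, 21, true), (18, 21, true), (24, 21, true), (5, 18, true), (4, 11, true), (3, 11, true), (2, 11, true), (7, 19, true), (6, 19, true), (5, 19, true), (4, 19, true), (5, 5, true), (7, 19, true), (6, 19, true), (5, 19, true), (6, 5, true), (8, 18, true), (7, 18, true), (6, 18, true), (5, 11, true), (4, 11, true), (3, 11, true), (8, 19, true), (7, 19, true), (6, 19, true), (5, 19, true), (6, 5, true), (8, 19, true), (7, 19, true), (6, 19, true), (7, 5, true), (7, 5, true), (4, 3, true), (5, 18, true), (4, 11, true), (0, 2, true), (1, 5, true), (0, 11, true), (5, 19, true), (4, 19, true), (3, 19, true), (2, 19, true), (6, 19, true), (5, 19, true), (4, 19, true), (3, 19, true), (7, 19, true), (6, 19, true), (5, 19, true), (4, 19, true), (5, 5, true), (4, 11, true), (3, 11, true), (2, 11, true), (1, 11, true), (6, 19, true), (5, 19, true), (4, 19, true), (3, 19, true),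 (4, 5, true), (6, 19, true), (5, 19, true), (4, 19, true), (5, 5, true), (6, 19, true), (5, 19, true), (6, 5, true), (6, 18, true), (5, 11, true), (4, 11, true), (3, 11, true), (2, 11, true), (7, 19, true), (6, 19, true), (5, 19, true), (4, 19, true), (5, 5, true), (7, 19, true), (6, 19, true), (5, 19, true), (6, 5, true), (7, 19, true), (6, 19, true), (7, 5, true), (8, 19, true), (7, 19, true), (3, 3, true), (4, 19, true), (3, 19, true), (5, 19, true), (4, 19, true), (7, 18, true), (6, 18, true), (5, 18, true), (4, 11, true), (3, 11, true), (8, 19, true), (7, 19, true), (6, 19, true), (5, 19, true), (6, 5, true), (6, 5, true), (6, 18, true), (5, 11, true), (4, 11, true), (0, 2, true), (4, 19, true), (3, 19, true), (2, 19, true), (1, 19, true), (2, 5, true), (5, 19, true), (4, 19, true), (3, 19, true), (2, 19, true), (6, 19, true), (5, 19, true), (4, 19, true), (3, 19, true), (7, 19, true), (6, 19, true), (5, 19, true),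 (4, 19, true), (0, 3, true), (0, 5, true), (1, 1, false)]),
    ([6, 2, 3, 3, 3, 3, 1], [(0, 22, true), (1, 21, true), (6, 5, false), (6, 5, false), (6, 5, false), (5, 19, false), (6, 19, false), (4, 19, false), (0, 8, false), (1, 8, false), (2, 10, false), (3, 10, false), (4, 10, false), (5, 17, false), (16, 25, false), (13, 25, false), (10, 25, false), (7, 25, false), (6, 22, false), (0, 21, false), (6, 19, false), (7, 19, false), (8, 19, false), (5, 19, false), (6, 19, false), (4, 19, false), (1, 8, false), (2, 10, false), (3, 10, false), (4, 10, false), (5, 10, false)]),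
    ([6, 3, 4, 4, 4, 5, 1], [(0, 23, true), (11, 21, true), (10, 18, true), (9, 18, true), (8, 18, true), (7, 11, true), (6, 11, true), (2, 2, true), (6, 19, true), (5, 19, true), (4, 19, true), (3, 19, true), (4, 5, true), (4, 5, true), (4, 18, true), (3, 11, true), (2, 11, true), (7, 19, true), (6, 19, true), (5, 19, true), (4, 19, true), (5, 5, true), (8, 19, true), (7, 19, true), (6, 19, true), (5, 19, true), (9, 19, true), (8, 19, true), (7, 19, true), (6, 19, true), (10, 19, true), (9, 19, true), (8, 19, true), (7, 19, true), (3, 3, true), (3, 5, true), (3, 5, false), (3, 5, false), (3, 5, false), (3, 3, false), (6, 5, false), (6, 5, false), (5, 19, false), (6, 19, false), (7, 19, false), (5, 5, false), (4, 19, false), (5, 19, false), (6, 19, false), (7, 19, false), (2, 11, false), (3, 11, false), (4, 11, false), (5, 18, false), (6, 18, false), (7, 18, false), (5, 5, false), (4, 19, false), (5, 19, false), (6, 19,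 false), (4, 5, false), (3, 19, false), (4, 19, false), (5, 19, false), (6, 19, false), (2, 2, false), (6, 11, false), (7, 11, false), (8, 11, false), (9, 18, false), (9, 5, false), (9, 5, false), (8, 19, false), (9, 19, false), (10, 19, false), (8, 5, false), (7, 19, false), (8, 19, false), (9, 19, false), (10, 19, false), (5, 11, false), (6, 11, false), (7, 11, false), (8, 18, false), (9, 18, false), (10, 18, false), (11, 18, false), (8, 5, false), (7, 19, false), (8, 19, false), (9, 19, false), (7, 5, false), (6, 19, false), (7, 19, false), (8, 19, false), (9, 19, false), (4, 11, false), (5, 11, false), (6, 11, false), (7, 18, false), (8, 18, false), (7, 5, false), (6, 19, false), (7, 19, false), (5, 19, false), (1, 8, false), (2, 8, false), (3, 10, false), (4, 10, false), (5, 10, false), (6, 17, false), (7, 17, false), (8, 17, false), (9, 17, false), (5, 19, false), (6, 19, false), (4, 19, false), (0, 8, false), (1, 8,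 false), (2, 10, false), (3, 10, false), (4, 10, false), (5, 17, false), (26, 25, false), (23, 25, false), (20, 25, false), (17, 25, false), (6, 23, false), (0, 21, false), (6, 5, true), (6, 5, false), (5, 20, false), (6, 20, false), (7, 20, false), (4, 20, false), (5, 20, false), (3, 20, false), (1, 10, false), (2, 13, false), (3, 13, false), (4, 13, false), (5, 17, false)]),
    ([7, 4, 5, 5, 5, 0], [(0, 30, true), (4, 26, true), (3, 16, true), (2, 16, true), (1, 12, true), (0, 12, true), (1, 30, false), (0, 26, false), (1, 12, false), (2, 16, false), (3, 16, false), (4, 16, false)]),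
    ([9, 0, 0, 0, 0, 0], [(0, 33, true), (10, 33, true), (20, 33, true), (30, 33, true), (40, 33, true), (9, 18, true), (8, 18, true), (7, 18, true), (6, 18, true), (5, 14, true), (4, 14, true), (3, 14, true), (2, 14, true), (1, 11, true), (6, 20, true), (5, 20, true), (4, 20, true), (3, 20, true), (7, 20, true), (6, 20, true), (5, 20, true), (4, 20, true), (8, 20, true), (7, 20, true), (6, 20, true), (5, 20, true), (9, 20, true), (8, 20, true), (7, 20, true), (6, 20, true), (7, 5, true), (9, 19, true), (8, 19, true), (7, 19, true), (6, 15, true), (5, 15, true), (4, 15, true), (3, 15, true), (10, 20, true), (9, 20, true), (8, 20, true), (4, 4, true), (6, 20, true), (5, 20, true), (4, 20, true), (7, 20, true), (6, 20, true), (5, 20, true), (8, 20, true), (7, 20, true), (6, 20, true), (7, 5, true), (8, 18, true), (7, 18, true), (6, 14, true), (5, 14, true), (4, 14, true), (3, 11, true), (2, 11, true), (7, 19, true), (6, 19,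 true), (5, 19, true), (4, 19, true), (5, 5, true), (7, 20, true), (6, 20, true), (5, 20, true), (8, 20, true), (7, 20, true), (6, 20, true), (9, 20, true), (8, 20, true), (7, 20, true), (8, 5, true), (7, 15, true), (6, 15, true), (5, 15, true), (6, 4, true), (11, 18, true), (10, 18, true), (9, 18, true), (8, 18, true), (7, 14, true), (6, 14, true), (5, 11, true), (4, 11, true), (3, 11, true), (8, 19, true), (7, 19, true), (6, 19, true), (5, 19, true), (6, 5, true), (8, 19, true), (7, 19, true), (6, 19, true), (7, 5, true), (8, 20, true), (7, 20, true), (9, 20, true), (8, 20, true), (9, 5, true), (9, 19, true), (8, 15, true), (7, 15, true), (10, 20, true), (11, 20, true), (12, 20, true), (8, 4, true), (8, 20, true), (9, 5, true), (8, 14, true), (7, 11, true), (6, 11, true), (5, 11, true), (4, 11, true), (0, 2, true), (4, 19, true), (3, 19, true), (2, 19, true), (1, 19, true), (2, 5, true), (4, 19, true), (3, 19, true), (2,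 19, true), (3, 5, true), (4, 19, true), (3, 19, true), (4, 5, true), (4, 20, true), (5, 19, true), (4, 15, true), (0, 3, true), (1, 20, true), (2, 20, true), (3, 20, true), (4, 20, true), (0, 4, true), (0, 5, true), (1, 0, false)])]
  combos := [
    [(9, 4), (11, 1), (12, 2), (17, 4)],
    [(5, 4), (7, 2), (8, 3), (9, 1), (10, 3), (11, 4), (12, 1), (13, 4)],
    [(9, 4)],
    [(5, 1), (7, 3), (8, 2), (9, 2), (10, 2), (11, 2), (12, 4)],
    [(5, 2), (7, 1), (8, 4), (9, 4), (10, 4), (11, 4), (12, 1)],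
    [(5, 3), (7, 4), (8, 1), (9, 1), (10, 1), (11, 4), (12, 2)],
    [(1, 3), (4, 2), (5, 3), (6, 3), (7, 4), (8, 2), (9, 1), (10, 1), (11, 4), (12, 2), (14, 1), (15, 4)],
    [(0, 4), (1, 1), (4, 4)],
    [(1, 4), (4, 1), (5, 2), (6, 1), (7, 1), (8, 4), (9, 4), (10, 4), (11, 1), (12, 3)],
    [(2, 2), (4, 3), (5, 3), (6, 2), (7, 2), (8, 4), (16, 1)],
    [(2, 2), (4, 2), (5, 3), (6, 3), (7, 2), (8, 4)],
    [(5, 4)],
    [(2, 2), (4, 3), (5, 3), (6, 2), (7, 2), (8, 4)],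
    [(3, 4), (6, 1)],
    [(6, 4)],
    [(7, 4), (8, 4)],
    [(8, 4)]]
  sorted := []

/-- the symbols as a straight line program -/
def prog5 : List (ℕ × ℕ) := [
    (4, 7), (0, 10), (4, 11), (7, 0), (0, 7), (3, 13), (1, 0), (10, 3),
    (16, 6), (1, 0), (0, 13), (4, 19), (1, 0), (16, 3), (22, 7), (1, 0),
    (0, 19), (4, 25), (1, 0), (22, 3), (28, 7), (1, 0), (0, 18), (4, 21),
    (1, 0), (34, 34), (29, 29), (0, 31), (0, 30), (0, 38), (0, 37), (0, 35),
    (0, 39), (0, 42), (0, 40), (0, 42), (0, 44), (0, 46), (0, 41), (0, 45),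
    (0, 47), (0, 47)]

/-- where the symbols are -/
def pos5 : List ℕ := [50, 40, 35, 29, 23, 17, 51, 16, 48, 0]

/-- vectors witnessing the order of the Sylow subgroup -/
def vecs5 : List (List (List ℕ)) := [
    [[0, 0, 0, 0, 0, 0, 0, 0, 0, 3, 2, 3, 2, 4, 3, 3, 0, 2, 0, 2, 0, 0, 4, 0, 4, 3, 3, 0, 4, 3, 3, 0, 0, 0, 2, 2, 2, 0, 1, 3, 0, 0, 2, 0, 2, 0, 0, 0, 3, 2, 1, 0, 0, 4, 0, 4, 0, 0, 0, 1, 0, 4, 0, 4, 3, 3, 0, 4, 3, 3, 3, 0, 2, 0, 4, 4, 3, 3, 0, 4, 0, 0, 0, 0, 0, 0, 0, 0, 2, 1, 2, 2, 0, 1, 2, 2, 0, 0, 0, 3, 2, 1, 0, 0, 0, 0, 0, 0, 0, 0, 0]],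
    [[0, 0, 0, 0, 0, 0, 0, 0, 0, 2, 3, 2, 3, 0, 2, 2, 0, 2, 0, 3, 1, 4, 2, 4, 4, 2, 2, 0, 3, 2, 2, 0, 1, 1, 3, 2, 2, 4, 3, 2, 0, 1, 0, 0, 3, 3, 1, 0, 2, 2, 3, 1, 4, 4, 1, 4, 4, 0, 0, 3, 3, 1, 2, 3, 2, 2, 0, 1, 2, 2, 2, 1, 3, 2, 1, 0, 2, 2, 0, 4, 0, 3, 1, 1, 4, 3, 1, 2, 2, 4, 2, 2, 4, 1, 2, 2, 1, 1, 3, 1, 2, 0, 1, 0, 0, 0, 0, 0, 0, 0, 0],
      [0, 0, 0, 0, 0, 0, 0, 0, 0, 2, 3, 2, 3, 1, 2, 2, 3, 2, 0, 3, 3, 0, 3, 2, 0, 2, 2, 3, 2, 2, 2, 3, 0, 4, 3, 2, 2, 1, 4, 2, 0, 3, 0, 0, 3, 0, 2, 2, 2, 0, 4, 2, 2, 4, 2, 0, 2, 2, 3, 2, 4, 2, 1, 4, 2, 2, 3, 1, 2, 2, 0, 4, 3, 1, 0, 4, 2, 2, 3, 3, 3, 2, 4, 0, 3, 2, 4, 0, 1, 0, 2, 2, 1, 0, 2, 2, 0, 4, 0, 1, 3, 1, 2, 2, 0, 1, 0, 0, 3, 0, 3],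
      [0, 0, 0, 0, 0, 0, 0, 0, 0, 2, 3, 2, 3, 2, 2, 2, 1, 2, 0, 3, 0, 1, 4, 0, 1, 2, 2, 1, 1, 2, 2, 1, 4, 2, 3, 2, 2, 3, 0, 2, 0, 0, 0, 0, 3, 2, 3, 4, 2, 3, 0, 3, 0, 4, 3, 1, 0, 4, 1, 1, 0, 3, 0, 0, 2, 2, 1, 1, 2, 2, 3, 2, 3, 0, 4, 3, 2, 2, 1, 2, 1, 1, 2, 4, 2, 1, 2, 3, 0, 1, 2, 2, 3, 4, 2, 2, 4, 2, 2, 1, 4, 2, 3, 4, 0, 2, 0, 0, 2, 0, 4],
      [0, 0, 0, 0, 0, 0, 0, 0, 0, 2, 3, 2, 3, 3, 2, 2, 4, 2, 0, 3, 2, 2, 0, 3, 2, 2, 2, 4, 0, 2, 2, 4, 3, 0, 3, 2, 2, 0, 1, 2, 0, 2, 0, 0, 3, 4, 4, 1, 2, 1, 1, 4, 3, 4, 4, 2, 3, 1, 4, 0, 1, 4, 4, 1, 2, 2, 4, 1, 2, 2, 1, 0, 3, 4, 3, 2, 2, 2, 4, 1, 4, 0, 0, 3, 1, 0, 0, 1, 4, 2, 2, 2, 0, 3, 2, 2, 3, 0, 4, 1, 0, 3, 4, 1, 0, 3, 0, 0, 2, 0, 1],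
      [0, 0, 0, 0, 0, 0, 0, 0, 0, 2, 3, 2, 3, 4, 2, 2, 2, 2, 0, 3, 4, 3, 1, 1, 3, 2, 2, 2, 4, 2, 2, 2, 2, 3, 3, 2, 2, 2, 2, 2, 0, 4, 0, 0, 3, 1, 0, 3, 2, 4, 2, 0, 1, 4, 0, 3, 1, 3, 2, 4, 2, 0, 3, 2, 2, 2, 2, 1, 2, 2, 4, 3, 3, 3, 2, 1, 2, 2, 2, 0, 2, 4, 3, 2, 0, 4, 3, 4, 3, 3, 2, 2, 2, 2, 2, 2, 2, 3, 1, 1, 1, 4, 0, 3, 0, 4, 0, 0, 3, 0, 2]],
    [[0, 0, 0, 0, 0, 0, 0, 0, 0, 2, 3, 2, 3, 0, 2, 2, 0, 2, 0, 3, 1, 4, 2, 4, 4, 2, 2, 0, 3, 2, 2, 0, 1, 1, 3, 2, 2, 4, 3, 2, 0, 1, 0, 0, 3, 3, 1, 0, 2, 2, 3, 1, 4, 4, 1, 4, 4, 0, 0, 3, 3, 1, 2, 3, 2, 2, 0, 1, 2, 2, 2, 1, 3, 2, 1, 0, 2, 2, 0, 4, 0, 3, 1, 1, 4, 3, 1, 2, 2, 4, 2, 2, 4, 1, 2, 2, 1, 1, 3, 1, 2, 0, 1, 0, 0, 0, 0, 0, 0, 0, 0]],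
    [[0, 0, 0, 0, 0, 0, 0, 0, 0, 2, 2, 2, 0, 2, 2, 2, 0, 4, 2, 3, 0, 3, 3, 0, 2, 2, 2, 0, 0, 2, 2, 0, 0, 0, 3, 4, 4, 0, 4, 4, 0, 0, 0, 0, 1, 0, 0, 0, 1, 2, 4, 4, 0, 3, 4, 4, 0, 0, 0, 4, 4, 3, 0, 4, 2, 2, 0, 0, 2, 2, 1, 0, 3, 3, 1, 0, 2, 2, 0, 3, 0, 0, 0, 0, 0, 0, 0, 0, 3, 4, 4, 4, 0, 1, 4, 4, 0, 0, 0, 3, 1, 0, 0, 0, 0, 0, 0, 0, 0, 0, 0]],
    [[0, 0, 0, 0, 0, 0, 0, 0, 0, 2, 2, 2, 4, 3, 4, 4, 0, 1, 4, 4, 0, 1, 0, 4, 2, 4, 4, 2, 1, 0, 2, 0, 1, 0, 0, 1, 1, 3, 0, 3, 0, 2, 2, 2, 2, 0, 2, 0, 2, 0, 2, 2, 4, 0, 2, 0, 0, 0, 2, 2, 4, 0, 0, 2, 4, 2, 2, 0, 3, 0, 3, 0, 0, 4, 2, 2, 1, 1, 1, 4, 0, 3, 0, 4, 0, 4, 1, 0, 0, 0, 0, 0, 0, 0, 0, 0, 0, 0, 0, 0, 0, 0, 0, 0, 0, 0, 0, 0, 0, 0, 0]],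
    [[1, 0, 0, 0, 0, 0, 0, 0, 0, 0, 0, 0, 0, 0, 0, 0, 0, 0, 0, 0, 0, 0, 0, 0, 0, 0, 0, 0, 0, 0, 0, 0, 0, 0, 0, 0, 0, 0, 0, 0, 0, 0, 0, 0, 0, 0, 0, 0, 0, 0, 0, 0, 0, 0, 0, 0, 0, 0, 0, 0, 0, 0, 0, 0, 0, 0, 0, 0, 0, 0, 0, 0, 0, 0, 0, 0, 0, 0, 0, 0, 0, 0, 0, 0, 0, 0, 0, 0, 0, 0, 0, 0, 0, 0, 0, 0, 0, 0, 0, 0, 0, 0, 0, 0, 0, 0, 0, 0, 0, 0, 0]]]

end H46.LySchur
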