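import Cfsg.Agent.H46.Ly.Cert
import Cfsg.Agent.H46.Ly.SchurData5

/-! Kernel check of the certificate for the prime 5. -/

set_option autoImplicit false
set_option maxRecDepth 100000
set_option maxHeartbeats 0
set_option exponentiation.threshold 300
set_option Elab.async false

namespace H46.LySchur

open H97.SchurCert

theorem mat5 : matOK data5 prog5 pos5 vecs5 = true := by decide +kernel

theorem defs5 : defsOK data5 = true := by decide +kernel

theorem pc5 : pcOK data5 = true := by decide +kernel

theorem combos5 : combosOK data5 = true := by decide +kernel

end H46.LySchur
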