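import Cfsg.Agent.H46.Ly.SchurCheck2
import Cfsg.Agent.H46.Ly.SchurCheck3
import Cfsg.Agent.H46.Ly.SchurCheck5

/-!
The Sylow orders divide the order of the presented Lyons group, from the certificates read in its
111-dimensional representation.
-/

set_option autoImplicit false
set_option maxRecDepth 10000
set_option exponentiation.threshold 300

namespace H46.LySchur

open H68.Ly H97.SchurCert

local notation "GLf" => GL (Fin 111) (ZMod 5)

theorem dvd_range_of_mat [Finite Lyo] (D : Data) (hp : D.p.Prime) (prog : List (ℕ × ℕ)) (pos : List ℕ)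
    (vs : List (List (List ℕ))) (hmat : matOK D prog pos vs = true) (hpc : pcOK D = true) :
    D.p ^ D.n ∣ Nat.card rep.range := by
  obtain ⟨env0, he0⟩ := runLett_eq (List.range 10) (fun l hl => List.mem_range.1 hl) []
  set env := runG prog env0 with henv
  let v0 : ℕ → Lyo := fun s => nth 1 env (nth 0 pos s)
  let val : ℕ → GLf := fun s => rep (v0 s)
  simp only [matOK, fz_eq] at hmat
  simp only [List.map_nil] at he0
  rw [he0, runP_eq] at hmat
  rw [Bool.and_eq_true, List.all_eq_true, List.all_eq_true] at hmat
  obtain ⟨hr, hw⟩ := hmat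
  have hval : ∀ w, evG val w = rep (evG v0 w) := fun w => by rw [map_evG]
  have hev : ∀ w : List ℕ, evG (fun s => nth 1 env s) (w.map fun s => nth 0 pos s) = evG v0 w :=
    fun w => by simp only [evG, List.map_map]; rfl
  have hrules : ∀ r ∈ D.rules, evG val r.1 = evG val r.2 := by
    intro r hrm
    have := hr r hrm
    have hp1 : ∀ (w : List ℕ) (k : ℕ → Bool), prodP cmask (H60.PackMat.rep (111 * 111) 65535) idN
        (env.map code) w idN k = k (code (evG (fun s => nth 1 env s) w)) := fun w k => by
      have := prodP_eq env w 1 k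
      rwa [code_one, one_mul] at this
    rw [ruleP, hp1, hp1, hev, hev] at this
    rw [hval, hval]
    exact Units.ext (St_inj (Nat.eq_of_beq_eq_true this))
  simp only [pcOK, List.all_eq_true, List.mem_range, Bool.and_eq_true, List.any_eq_true,
    Bool.or_eq_true, beq_iff_eq, decide_eq_true_eq] at hpc
  let S : ℕ → Subgroup GLf := fun i => Subgroup.closure (val '' {k | i ≤ k ∧ k < D.n})
  have hmemS : ∀ i k, i ≤ k → k < D.n → val k ∈ S i := fun i k h1 h2 =>
    Subgroup.subset_closure ⟨k, ⟨h1, h2⟩, rfl⟩
  have hwS : ∀ i (w : List ℕ), (∀ s ∈ w, i < s ∧ s < D.n) → evG val w ∈ S (i + 1) := fun i w hw' =>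
    evG_mem (S := (S (i + 1)).toSubmonoid) fun s hs => hmemS _ _ (hw' s hs).1 (hw' s hs).2
  have hrule : ∀ r, r < D.rules.length → evG val (ruleAt D r).1 = evG val (ruleAt D r).2 := fun r hrl =>
    hrules _ (by unfold ruleAt; rw [List.getD_eq_getElem _ _ hrl]; exact List.getElem_mem hrl)
  have hpow : ∀ i < D.n, val i ^ D.p ∈ S (i + 1) := fun i hi => by
    obtain ⟨⟨r, hrl, hz, hr2⟩, -⟩ := hpc i hi
    rw [show val i ^ D.p = evG val (List.replicate D.p i) by
      rw [evG, List.map_replicate, List.prod_replicate], ← hz.2, hrule r hrl]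
    exact hwS i _ hr2
  have hlow : ∀ i < D.n, D.p * Nat.card (S (i + 1)) ≤ Nat.card (S i) := by
    intro i hi
    refine card_step hp (val i) _ _ ?_ (hmemS i i le_rfl hi) ?_ (hpow i hi)
    · refine (Subgroup.closure_le _).2 ?_
      rintro _ ⟨k, ⟨h1, h2⟩, rfl⟩
      exact hmemS i k (by omega) h2
    · intro hmem
      have h := hw i (List.mem_range.2 hi)
      unfold witP at h
      obtain ⟨Vs, hV⟩ := vecsP_eq _ h
      simp only [Bool.and_eq_true, List.all_eq_true, Bool.not_eq_true', Bool.or_eq_true,
        Nat.ble_eq] at hV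
      obtain ⟨⟨hne, hstab⟩, hout⟩ := hV
      cases Vs with
      | nil => simp at hne
      | cons V0 Vs =>
        have hP : ∀ g ∈ S (i + 1), ∀ x ∈ V0 :: Vs, x * (g : GLf).val ∈ V0 :: Vs := by
          intro g hg
          induction hg using Subgroup.closure_induction with
          | mem y hy =>
            obtain ⟨k, ⟨h1, h2⟩, rfl⟩ := hy
            intro x hx
            have := (hstab k (List.mem_range.2 h2)).resolve_left (by omega) (St x)
              (List.mem_map_of_mem hx)
            rw [← code_one, nth_map, code, mulN_eq, List.any_eq_true] at this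
            obtain ⟨z, hz, he⟩ := this
            obtain ⟨w, hw', rfl⟩ := List.mem_map.1 hz
            rw [St_inj (Nat.eq_of_beq_eq_true he)]
            exact hw'
          | one => intro x hx; rwa [Units.val_one, mul_one]
          | mul a b _ _ ha hb =>
            intro x hx
            rw [Units.val_mul, ← mul_assoc]
            exact hb _ (ha x hx)
          | inv a _ ha =>
            have hpw : ∀ e : ℕ, ∀ x ∈ V0 :: Vs, x * (a ^ e : GLf).val ∈ V0 :: Vs := by
              intro e
              induction e with
              | zero => intro x hx; rwa [pow_zero, Units.val_one, mul_one]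
              | succ e ih =>
                intro x hx
                rw [pow_succ, Units.val_mul, ← mul_assoc]
                exact ha _ (ih x hx)
            have e : a⁻¹ = a ^ (orderOf a - 1) := by
              refine inv_eq_of_mul_eq_one_right ?_
              rw [← pow_succ', Nat.sub_add_cancel (orderOf_pos a), pow_orderOf_eq_one]
            intro x hx
            rw [e]; exact hpw _ x hx
        have hin := hP _ hmem V0 List.mem_cons_self
        have h2 := hout
        rw [show nth 0 (List.map St (V0 :: Vs)) 0 = St V0 from rfl, ← code_one, nth_map, code,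
          mulN_eq] at h2
        rw [Bool.not_eq_true'] at h2
        rw [List.any_eq_false] at h2
        refine h2 _ (List.mem_map_of_mem hin) ?_
        exact Nat.beq_refl _
  have hup : ∀ i < D.n, Nat.card (S i) ≤ D.p * Nat.card (S (i + 1)) := by
    intro i hi
    refine card_closure_step hp.pos (val i) (S (i + 1)) (hpow i hi) ?_ _ ?_
    · intro x hx
      induction hx using Subgroup.closure_induction with
      | mem y hy =>
        obtain ⟨j, ⟨hij, hjn⟩, rfl⟩ := hy
        obtain ⟨r, hrl, ⟨⟨-, hl⟩, hhd⟩, htl⟩ := ((hpc i hi).2 j hjn).resolve_left (by omega)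
        have h := hrule r hrl
        rw [hl] at h
        obtain ⟨tl, htl'⟩ := List.head?_eq_some_iff.1 hhd
        rw [htl'] at h htl
        have e : val j * val i = val i * evG val tl := by simpa [evG] using h
        rw [mul_assoc, e, inv_mul_cancel_left]
        exact hwS i tl htl
      | one => simp
      | mul a b _ _ ha hb =>
        have := mul_mem ha hb
        simpa [mul_assoc] using this
      | inv a _ ha =>
        have := inv_mem ha
        simpa [mul_assoc] using this
    · rintro x ⟨k, ⟨h1, h2⟩, rfl⟩
      rcases h1.eq_or_lt with rfl | h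
      · exact Or.inl rfl
      · exact Or.inr (hmemS _ _ h h2)
  have hall : ∀ d ≤ D.n, Nat.card (S (D.n - d)) = D.p ^ d := by
    intro d
    induction d with
    | zero =>
      intro _
      have : S D.n = ⊥ := by
        simp only [S]
        rw [Subgroup.closure_eq_bot_iff]
        rintro x ⟨k, hk, rfl⟩
        have h1 := hk.1
        have h2 := hk.2
        omega
      rw [Nat.sub_zero, this, Subgroup.card_bot, pow_zero]
    | succ d ih =>
      intro hd
      have e1 := hlow (D.n - (d + 1)) (by omega)
      have e2 := hup (D.n - (d + 1)) (by omega)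
      rw [show D.n - (d + 1) + 1 = D.n - d by omega, ih (by omega)] at e1 e2
      rw [pow_succ']
      exact le_antisymm e2 e1
  have h0 : Nat.card (S 0) = D.p ^ D.n := by simpa using hall D.n le_rfl
  have hle : S 0 ≤ rep.range := by
    refine (Subgroup.closure_le _).2 ?_
    rintro _ ⟨k, -, rfl⟩
    exact ⟨v0 k, rfl⟩
  rw [← h0]
  exact Subgroup.card_dvd_of_le hle

/-- The three big Sylow orders divide the order of the image. -/
theorem pow_dvd_range [Finite Lyo] :
    2 ^ 8 ∣ Nat.card rep.range ∧ 3 ^ 7 ∣ Nat.card rep.range ∧ 5 ^ 6 ∣ Nat.card rep.range :=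
  ⟨dvd_range_of_mat data2 Nat.prime_two prog2 pos2 vecs2 mat2 pc2,
    dvd_range_of_mat data3 Nat.prime_three prog3 pos3 vecs3 mat3 pc3,
    dvd_range_of_mat data5 Nat.prime_five prog5 pos5 vecs5 mat5 pc5⟩

/-- The three big Sylow orders divide the order. -/
theorem pow_dvd_card [Finite Lyo] :
    2 ^ 8 ∣ Nat.card Cfsg.Spor.Ly ∧ 3 ^ 7 ∣ Nat.card Cfsg.Spor.Ly ∧ 5 ^ 6 ∣ Nat.card Cfsg.Spor.Ly :=
  ⟨pow_dvd_range.1.trans (Subgroup.card_range_dvd rep), pow_dvd_range.2.1.trans (Subgroup.card_range_dvd rep),
    pow_dvd_range.2.2.trans (Subgroup.card_range_dvd rep)⟩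

end H46.LySchur
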