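import Cfsg.Agent.H46.Ly.Prog
import Cfsg.Agent.H97.SchurMathieu

/-!
Multiplier certificates for the presented Lyons group on packed 111-dimensional matrices.
-/

set_option autoImplicit false
set_option maxRecDepth 10000
set_option exponentiation.threshold 300

namespace H46.LySchur

open H68.Ly H97.SchurCert

/-- run the letters -/
noncomputable def runLett (cm m i1 : ℕ) (ks : List ℕ) : List ℕ → (List ℕ → Bool) → Bool :=
  List.rec (motive := fun _ => List ℕ → (List ℕ → Bool) → Bool) (fun env k => k env)
    (fun l _ ih env k => runR cm m [rows l] i1 fun z => ih (z :: env) k) ks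

/-- a rule holds on the entries -/
noncomputable def ruleP (cm m i1 : ℕ) (env : List ℕ) (pos : ℕ → ℕ) (r : List ℕ × List ℕ) : Bool :=
  prodP cm m i1 env (r.1.map pos) i1 fun x => prodP cm m i1 env (r.2.map pos) i1 fun y => Nat.beq x y

/-- a vector as a table with one nonzero row -/
def vecTab (v : List ℕ) : List (List ℕ) := v :: List.replicate 110 (List.replicate 111 0)

/-- evaluate some vectors -/
noncomputable def vecsP (cm m i1 : ℕ) (vs : List (List ℕ)) : (List ℕ → Bool) → Bool :=
  List.rec (motive := fun _ => (List ℕ → Bool) → Bool) (fun k => k [])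
    (fun v _ ih k => tabOK (vecTab v) && runR cm m [packTab (vecTab v)] i1 fun x =>
      ih fun xs => k (x :: xs)) vs

/-- some vectors are permuted by the later symbols, and the first leaves them under this one -/
noncomputable def witP (cm m i1 : ℕ) (env : List ℕ) (pos : ℕ → ℕ) (n i : ℕ) (vs : List (List ℕ)) :
    Bool :=
  vecsP cm m i1 vs fun xs => !xs.isEmpty &&
    ((List.range n).all fun k => Nat.ble k i || xs.all fun x =>
      mulN cm m x (nth i1 env (pos k)) fun y => xs.any fun z => Nat.beq y z) &&
      mulN cm m (nth 0 xs 0) (nth i1 env (pos i)) fun y => !(xs.any fun z => Nat.beq y z)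

/-- all checks on the matrices of a certificate -/
noncomputable def matOK (D : Data) (prog : List (ℕ × ℕ)) (pos : List ℕ) (vs : List (List (List ℕ))) : Bool :=
  fz cmask fun cm => fz (H60.PackMat.rep (111 * 111) 65535) fun m => fz idN fun i1 =>
    runLett cm m i1 (List.range 10) [] fun env0 => runP cm m i1 prog env0 fun env =>
      (D.rules.all fun r => ruleP cm m i1 env (fun s => nth 0 pos s) r) &&
        (List.range D.n).all fun i => witP cm m i1 env (fun s => nth 0 pos s) D.n i (nth [] vs i)

theorem vecsP_eq : ∀ (vs : List (List ℕ)) {k : List ℕ → Bool},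
    vecsP cmask (H60.PackMat.rep (111 * 111) 65535) idN vs k = true →
      ∃ Vs : List Mat, k (Vs.map St) = true
  | [], k, h => ⟨[], h⟩
  | v :: vs, k, h => by
    change (tabOK (vecTab v) && runR cmask (H60.PackMat.rep (111 * 111) 65535)
      ([vecTab v].map packTab) idN fun x =>
        vecsP cmask (H60.PackMat.rep (111 * 111) 65535) idN vs fun xs => k (x :: xs)) = true at h
    rw [Bool.and_eq_true] at h
    obtain ⟨ht, h⟩ := h
    rw [idN_eq, runR_eq _ (by simpa using ht), ← idN_eq] at h
    obtain ⟨Vs, hV⟩ := vecsP_eq vs h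
    exact ⟨_ :: Vs, hV⟩

theorem exists_letter : ∀ l, l < 10 → ∃ g : Lyo, (rep g : GL (Fin 111) (ZMod 5)) = U l := by
  have hgen : ∀ x : Cfsg.Spor.Ly.Gen, rep (PresentedGroup.of x) = W (genWord x) := fun x =>
    PresentedGroup.toGroup.of _
  have h5 : ∀ l, l < 5 → ∃ g : Lyo, (rep g : GL (Fin 111) (ZMod 5)) = U l := by
    intro l hl
    interval_cases l
    · exact ⟨PresentedGroup.of .a, (hgen .a).trans (by simp [W, genWord])⟩
    · exact ⟨PresentedGroup.of .b, (hgen .b).trans (by simp [W, genWord])⟩
    · exact ⟨PresentedGroup.of .c, (hgen .c).trans (by simp [W, genWord])⟩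
    · exact ⟨PresentedGroup.of .d, (hgen .d).trans (by simp [W, genWord])⟩
    · exact ⟨PresentedGroup.of .z, (hgen .z).trans (by simp [W, genWord])⟩
  intro l hl
  by_cases h : l < 5
  · exact h5 l h
  · obtain ⟨g, hg⟩ := h5 (l - 5) (by omega)
    refine ⟨g⁻¹, ?_⟩
    rw [map_inv, hg, ← U_inv (by omega), show invLetter (l - 5) = l by unfold invLetter; split <;> omega]

theorem runLett_eq : ∀ (ks : List ℕ), (∀ l ∈ ks, l < 10) → ∀ (env : List Lyo), ∃ env' : List Lyo,
    ∀ k, runLett cmask (H60.PackMat.rep (111 * 111) 65535) idN ks (env.map code) k = k (env'.map code)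
  | [], _, env => ⟨env, fun _ => rfl⟩
  | l :: ks, h, env => by
    obtain ⟨g, hg⟩ := exists_letter l (h l List.mem_cons_self)
    obtain ⟨env', he⟩ := runLett_eq ks (fun x hx => h x (List.mem_cons_of_mem _ hx)) (g :: env)
    refine ⟨env', fun k => ?_⟩
    show runR cmask (H60.PackMat.rep (111 * 111) 65535) [rows l] idN (fun z =>
      runLett cmask (H60.PackMat.rep (111 * 111) 65535) idN ks (z :: env.map code) k) = _
    rw [show [rows l] = [tab l].map packTab by rw [List.map_singleton, rows_eq], idN_eq,
      runR_eq _ (by simpa using tab_ok l (h l List.mem_cons_self)), ← idN_eq]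
    rw [show (1 : Mat) * (([tab l] : List (List (List ℕ))).map toM).prod = toM (tab l) by simp,
      ← coe_U (h l List.mem_cons_self), ← hg]
    exact he k

/-- a subgroup grows by the factor `p` -/
theorem card_step {G : Type*} [Group G] [Finite G] {p : ℕ} (hp : p.Prime) (s : G) (A B : Subgroup G)
    (hAB : A ≤ B) (hs : s ∈ B) (hns : s ∉ A) (hpow : s ^ p ∈ A) : p * Nat.card A ≤ Nat.card B := by
  have key : ∀ d : ℕ, 0 < d → d < p → s ^ d ∉ A := by
    intro d h0 h1 hd
    refine hns ?_
    have hco : Nat.Coprime d p :=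
      ((Nat.Prime.coprime_iff_not_dvd hp).2 fun h => absurd (Nat.le_of_dvd h0 h) (by omega)).symm
    obtain ⟨a, b, hab⟩ : ∃ a b : ℤ, (d : ℤ) * a + (p : ℤ) * b = 1 :=
      ⟨_, _, (Nat.gcd_eq_gcd_ab d p).symm.trans (by rw [hco]; rfl)⟩
    have : s = (s ^ d) ^ a * (s ^ p) ^ b := by
      rw [← zpow_natCast s d, ← zpow_natCast s p, ← zpow_mul, ← zpow_mul, ← zpow_add, hab, zpow_one]
    rw [this]
    exact mul_mem (zpow_mem hd a) (zpow_mem hpow b)
  let f : Fin p × A → B := fun q => ⟨s ^ q.1.val * q.2.1, mul_mem (pow_mem hs _) (hAB q.2.2)⟩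
  have aux : ∀ {e e' : ℕ} {x x' : A}, e ≤ e' → e' < p → s ^ e * x.1 = s ^ e' * x'.1 → e = e' := by
    intro e e' x x' hle hlt he
    by_contra hne
    refine key (e' - e) (by omega) (by omega) ?_
    rw [show e' = e + (e' - e) by omega, pow_add, mul_assoc] at he
    rw [eq_mul_inv_of_mul_eq (mul_left_cancel he).symm]
    exact mul_mem x.2 (inv_mem x'.2)
  have hf : Function.Injective f := by
    rintro ⟨e, x⟩ ⟨e', x'⟩ h
    have h' : s ^ e.val * x.1 = s ^ e'.val * x'.1 := congrArg Subtype.val h
    have he : e = e' := Fin.ext (by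
      rcases le_total e.val e'.val with hl | hl
      · exact aux hl e'.isLt h'
      · exact (aux hl e.isLt h'.symm).symm)
    subst he
    exact Prod.ext rfl (Subtype.ext (mul_left_cancel h'))
  calc p * Nat.card A = Nat.card (Fin p × A) := by rw [Nat.card_prod, Nat.card_fin]
    _ ≤ Nat.card B := Nat.card_le_card_of_injective f hf

theorem rep_injective (h : IsSimpleGroup Lyo) : Function.Injective rep := by
  rw [← MonoidHom.ker_eq_bot_iff]
  rcases h.eq_bot_or_eq_top_of_normal rep.ker inferInstance with h' | h'
  · exact h'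
  · exact absurd (MonoidHom.mem_ker.1 (h'.symm ▸ Subgroup.mem_top _)) rep_a_ne_one

theorem code_injective (h : IsSimpleGroup Lyo) : Function.Injective code := fun _ _ e =>
  rep_injective h (Units.ext (St_inj e))

theorem not_dvd {Γ : Type} [Group Γ] [Finite Γ] [Finite Lyo] (hsimp : IsSimpleGroup Lyo)
    (D : Data) [Fact D.p.Prime] (prog : List (ℕ × ℕ)) (pos : List ℕ) (vs : List (List (List ℕ)))
    (hmat : matOK D prog pos vs = true) (hdefs : defsOK D = true) (hpc : pcOK D = true)
    (hcomb : combosOK D = true) {M : ℕ} (hcard : Nat.card Lyo = D.p ^ D.n * M) (hM : ¬ D.p ∣ M)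
    (σ : Γ →* Lyo) (hσ : Cfsg.IsStemExtension σ) : ¬ D.p ∣ Nat.card σ.ker := by
  have hp : D.p.Prime := Fact.out
  obtain ⟨env0, he0⟩ := runLett_eq (List.range 10) (fun l hl => List.mem_range.1 hl) []
  set env := runG prog env0 with henv
  let val : ℕ → Lyo := fun s => nth 1 env (nth 0 pos s)
  simp only [matOK, fz_eq] at hmat
  simp only [List.map_nil] at he0
  rw [he0, runP_eq] at hmat
  rw [Bool.and_eq_true, List.all_eq_true, List.all_eq_true] at hmat
  obtain ⟨hr, hw⟩ := hmat
  have hev : ∀ w : List ℕ, evG (fun s => nth 1 env s) (w.map fun s => nth 0 pos s) = evG val w :=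
    fun w => by simp only [evG, List.map_map]; rfl
  have hrules : ∀ r ∈ D.rules, evG val r.1 = evG val r.2 := by
    intro r hrm
    have := hr r hrm
    have hp1 : ∀ (w : List ℕ) (k : ℕ → Bool), prodP cmask (H60.PackMat.rep (111 * 111) 65535) idN
        (env.map code) w idN k = k (code (evG (fun s => nth 1 env s) w)) := fun w k => by
      have := prodP_eq env w 1 k
      rwa [code_one, one_mul] at this
    rw [ruleP, hp1, hp1, hev, hev] at this
    have e := this
    exact code_injective hsimp (Nat.eq_of_beq_eq_true e)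
  refine SchurAbs.not_dvd_card_ker D val hrules hdefs hpc ?_ hcomb hcard hM σ hσ
  -- the symbols generate a group of order at least `p ^ n`
  simp only [pcOK, List.all_eq_true, List.mem_range, Bool.and_eq_true, List.any_eq_true,
    Bool.or_eq_true, beq_iff_eq, decide_eq_true_eq] at hpc
  let S : ℕ → Subgroup Lyo := fun i => Subgroup.closure (val '' {k | i ≤ k ∧ k < D.n})
  have hmemS : ∀ i k, i ≤ k → k < D.n → val k ∈ S i := fun i k h1 h2 =>
    Subgroup.subset_closure ⟨k, ⟨h1, h2⟩, rfl⟩
  have hstep : ∀ i < D.n, D.p * Nat.card (S (i + 1)) ≤ Nat.card (S i) := by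
    intro i hi
    refine card_step hp (val i) _ _ ?_ (hmemS i i le_rfl hi) ?_ ?_
    · refine (Subgroup.closure_le _).2 ?_
      rintro _ ⟨k, ⟨h1, h2⟩, rfl⟩
      exact hmemS i k (by omega) h2
    · intro hmem
      have h := hw i (List.mem_range.2 hi)
      unfold witP at h
      obtain ⟨Vs, hV⟩ := vecsP_eq _ h
      simp only [Bool.and_eq_true, List.all_eq_true, Bool.not_eq_true', Bool.or_eq_true,
        Nat.ble_eq] at hV
      obtain ⟨⟨hne, hstab⟩, hout⟩ := hV
      cases Vs with
      | nil => simp at hne
      | cons V0 Vs =>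
        have hP : ∀ g ∈ S (i + 1), ∀ x ∈ V0 :: Vs, x * (rep g : GL (Fin 111) (ZMod 5)).val ∈ V0 :: Vs := by
          intro g hg
          induction hg using Subgroup.closure_induction with
          | mem y hy =>
            obtain ⟨k, ⟨h1, h2⟩, rfl⟩ := hy
            intro x hx
            have := (hstab k (List.mem_range.2 h2)).resolve_left (by omega) (St x)
              (List.mem_map_of_mem hx)
            rw [← code_one, nth_map, code, mulN_eq, List.any_eq_true] at this
            obtain ⟨z, hz, he⟩ := this
            obtain ⟨w, hw', rfl⟩ := List.mem_map.1 hz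
            rw [St_inj (Nat.eq_of_beq_eq_true he)]
            exact hw'
          | one => intro x hx; rwa [map_one, Units.val_one, mul_one]
          | mul a b _ _ ha hb =>
            intro x hx
            rw [map_mul, Units.val_mul, ← mul_assoc]
            exact hb _ (ha x hx)
          | inv a _ ha =>
            have hpow : ∀ e : ℕ, ∀ x ∈ V0 :: Vs, x * (rep (a ^ e) : GL (Fin 111) (ZMod 5)).val ∈ V0 :: Vs := by
              intro e
              induction e with
              | zero => intro x hx; rwa [pow_zero, map_one, Units.val_one, mul_one]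
              | succ e ih =>
                intro x hx
                rw [pow_succ, map_mul, Units.val_mul, ← mul_assoc]
                exact ha _ (ih x hx)
            have e : a⁻¹ = a ^ (orderOf a - 1) := by
              refine inv_eq_of_mul_eq_one_right ?_
              rw [← pow_succ', Nat.sub_add_cancel (orderOf_pos a), pow_orderOf_eq_one]
            intro x hx
            rw [e]; exact hpow _ x hx
        have hin := hP _ hmem V0 List.mem_cons_self
        have h2 := hout
        rw [show nth 0 (List.map St (V0 :: Vs)) 0 = St V0 from rfl, ← code_one, nth_map, code,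
          mulN_eq] at h2
        rw [Bool.not_eq_true'] at h2
        rw [List.any_eq_false] at h2
        refine h2 _ (List.mem_map_of_mem hin) ?_
        exact Nat.beq_refl _
    · obtain ⟨⟨r, hrl, hz, hr2⟩, -⟩ := hpc i hi
      have e := hrules (ruleAt D r) (by
        unfold ruleAt; rw [List.getD_eq_getElem _ _ hrl]; exact List.getElem_mem hrl)
      rw [hz.2] at e
      rw [show val i ^ D.p = evG val (List.replicate D.p i) by
        rw [evG, List.map_replicate, List.prod_replicate], e]
      exact evG_mem (S := (S (i + 1)).toSubmonoid) fun s hs => hmemS _ _ (hr2 s hs).1 (hr2 s hs).2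
  have hall : ∀ d ≤ D.n, D.p ^ d ≤ Nat.card (S (D.n - d)) := by
    intro d
    induction d with
    | zero => intro _; rw [pow_zero]; exact Nat.card_pos
    | succ d ih =>
      intro hd
      refine le_trans ?_ (hstep _ (by omega))
      rw [show D.n - (d + 1) + 1 = D.n - d by omega, pow_succ']
      exact Nat.mul_le_mul_left _ (ih (by omega))
  have := hall D.n le_rfl
  rw [Nat.sub_self] at this
  refine this.trans (le_of_eq ?_)
  show Nat.card (Subgroup.closure _) = _
  simp

end H46.LySchur
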