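import Cfsg.Agent.H46.Ly.SchurCheck2
import Cfsg.Agent.H46.Ly.SchurCheck3
import Cfsg.Agent.H46.Ly.SchurCheck5

/-! The multiplier of the Lyons group is trivial, given its order and simplicity. -/

set_option autoImplicit false
set_option maxRecDepth 10000

namespace H46.LySchur

open H97.SchurCert

theorem hasTrivialMultiplier_Ly (h : Cfsg.IsLy Cfsg.Spor.Ly) :
    Cfsg.HasCyclicSchurMultiplier Cfsg.Spor.Ly 1 := by
  obtain ⟨hs, hc⟩ := h
  haveI : Finite Lyo := Nat.finite_of_card_ne_zero (by rw [hc]; norm_num)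
  refine H97.hasTrivialMultiplier fun Γ _ _ σ hσ => ?_
  rw [← Subgroup.card_eq_one]
  by_contra hne
  obtain ⟨p, hp, hdvd⟩ := Nat.exists_prime_and_dvd hne
  haveI := Fact.mk hp
  have hsq := H97.SchurCert.sq_dvd_of_dvd_card_ker σ hσ hdvd
  rw [hc] at hsq
  have hfac : (51765179004000000 : ℕ) = 2 ^ 8 * 3 ^ 7 * 5 ^ 6 * (7 * 11 * 31 * 37 * 67) := by norm_num
  have hpd : p ∣ 51765179004000000 := (dvd_pow_self p two_ne_zero).trans hsq
  rw [hfac] at hpd
  have hq : ∀ q : ℕ, q.Prime → p ∣ q → p = q := fun q hq h => (Nat.prime_dvd_prime_iff_eq hp hq).1 h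
  have hmem : p = 2 ∨ p = 3 ∨ p = 5 ∨ p = 7 ∨ p = 11 ∨ p = 31 ∨ p = 37 ∨ p = 67 := by
    rcases hp.dvd_mul.1 hpd with h | h
    · rcases hp.dvd_mul.1 h with h | h
      · rcases hp.dvd_mul.1 h with h | h
        · exact Or.inl (hq 2 Nat.prime_two (hp.dvd_of_dvd_pow h))
        · exact Or.inr (Or.inl (hq 3 Nat.prime_three (hp.dvd_of_dvd_pow h)))
      · exact Or.inr (Or.inr (Or.inl (hq 5 Nat.prime_five (hp.dvd_of_dvd_pow h))))
    · rcases hp.dvd_mul.1 h with h | h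
      · rcases hp.dvd_mul.1 h with h | h
        · rcases hp.dvd_mul.1 h with h | h
          · rcases hp.dvd_mul.1 h with h | h
            · exact Or.inr (Or.inr (Or.inr (Or.inl (hq 7 (by norm_num) h))))
            · exact Or.inr (Or.inr (Or.inr (Or.inr (Or.inl (hq 11 (by norm_num) h)))))
          · exact Or.inr (Or.inr (Or.inr (Or.inr (Or.inr (Or.inl (hq 31 (by norm_num) h))))))
        · exact Or.inr (Or.inr (Or.inr (Or.inr (Or.inr (Or.inr (Or.inl (hq 37 (by norm_num) h)))))))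
      · exact Or.inr (Or.inr (Or.inr (Or.inr (Or.inr (Or.inr (Or.inr (hq 67 (by norm_num) h)))))))
  rcases hmem with rfl | rfl | rfl | rfl | rfl | rfl | rfl | rfl
  · haveI : Fact data2.p.Prime := ⟨Nat.prime_two⟩
    exact not_dvd hs data2 prog2 pos2 vecs2 mat2 defs2 pc2 combos2 (M := 3 ^ 7 * 5 ^ 6 * (7 * 11 * 31 * 37 * 67))
      (by rw [hc]; norm_num [data2]) (by norm_num [data2]) σ hσ hdvd
  · haveI : Fact data3.p.Prime := ⟨Nat.prime_three⟩
    exact not_dvd hs data3 prog3 pos3 vecs3 mat3 defs3 pc3 combos3 (M := 2 ^ 8 * 5 ^ 6 * (7 * 11 * 31 * 37 * 67))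
      (by rw [hc]; norm_num [data3]) (by norm_num [data3]) σ hσ hdvd
  · haveI : Fact data5.p.Prime := ⟨Nat.prime_five⟩
    exact not_dvd hs data5 prog5 pos5 vecs5 mat5 defs5 pc5 combos5 (M := 2 ^ 8 * 3 ^ 7 * (7 * 11 * 31 * 37 * 67))
      (by rw [hc]; norm_num [data5]) (by norm_num [data5]) σ hσ hdvd
  all_goals norm_num at hsq

end H46.LySchur
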