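import Cfsg.Agent.H97.SchurCertDefs

/-! A certificate that 2 does not divide the multiplier of the Lyons group (generated data). -/

set_option autoImplicit false
set_option maxRecDepth 20000

namespace H46.LySchur

open H97.SchurCert

def data2 : Data where
  p := 2
  n := 8
  syms := [0, 0, 0, 0, 0, 0, 0, 0, 0, 0, 0, 0]
  rules := [
    ([0, 0], [7]), ([1, 1], [3]), ([2, 2], []), ([3, 3], [6]),
    ([4, 4], []), ([5, 5], [7]), ([6, 6], []), ([7, 7], []),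
    ([1, 0], [0, 1, 4]), ([2, 0], [0, 2, 4]), ([2, 1], [1, 2, 3, 5, 6]), ([3, 0], [0, 3, 5]),
    ([3, 1], [1, 3]), ([3, 2], [2, 3, 7]), ([4, 0], [0, 4]), ([4, 1], [1, 4, 5, 7]),
    ([4, 2], [2, 4]), ([4, 3], [3, 4, 6, 7]), ([5, 0], [0, 5, 7]), ([5, 1], [1, 5, 6]),
    ([5, 2], [2, 5, 6]), ([5, 3], [3, 5]), ([5, 4], [4, 5, 7]), ([6, 0], [0, 6, 7]),
    ([6, 1], [1, 6]), ([6, 2], [2, 6]), ([6, 3], [3, 6]), ([6, 4], [4, 6]),
    ([6, 5], [5, 6]), ([7, 0], [0, 7]), ([7, 1], [1, 7]), ([7, 2], [2, 7]),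
    ([7, 3], [3, 7]), ([7, 4], [4, 7]), ([7, 5], [5, 7]), ([7, 6], [6, 7]),
    ([8, 0], [0, 8]), ([8, 4, 5, 6, 7], [1, 2, 4, 5, 6, 7, 8]), ([8, 5, 7], [5, 7, 8]), ([8, 7], [7, 8]),
    ([9, 0], [0, 7, 9]), ([9, 5, 7], [0, 5, 9]), ([9, 7], [7, 9]), ([10, 2, 3, 4, 7], [6, 10]),
    ([10, 4, 5], [4, 5, 7, 10]), ([10, 6, 7], [2, 3, 4, 10]), ([10, 7], [7, 10]), ([11, 0, 1, 2, 3, 5, 6], [3, 4, 5, 11]),
    ([11, 3, 4, 6, 7], [3, 4, 6, 11]), ([11, 7], [7, 11])]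
  defs := [(1, 3), (8, 4), (11, 5), (19, 6), (23, 7)]
  targets := [0, 2, 3, 4, 5, 6, 7, 9, 10, 12, 13, 14, 15, 16, 17, 18, 20, 21, 22, 24, 25, 26, 27, 28, 29, 30, 31, 32, 33, 34, 35]
  paths := [
    ([2, 1, 0], [(0, 10, true), (4, 23, true), (3, 18, true), (2, 11, true), (1, 9, true), (0, 8, true), (2, 16, true), (3, 4, true), (4, 5, true), (4, 7, true), (4, 4, false), (5, 27, false), (6, 33, false), (6, 7, false), (5, 35, false), (5, 5, false), (6, 28, false), (7, 34, false), (6, 35, false), (4, 22, false), (5, 27, false), (1, 10, false), (2, 15, false), (0, 9, false), (1, 8, false)]),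
    ([3, 1, 0], [(0, 12, true), (1, 11, true), (0, 8, true), (2, 17, true), (5, 34, true), (4, 28, true), (5, 35, false), (3, 22, false), (4, 27, false), (1, 12, false), (2, 19, false), (0, 11, false), (1, 8, false)]),
    ([3, 2, 0], [(0, 13, true), (2, 29, true), (1, 11, true), (0, 9, true), (2, 17, true), (5, 34, true), (4, 28, true), (6, 7, true), (6, 7, false), (5, 35, false), (3, 22, false), (4, 27, false), (5, 33, false), (4, 35, false), (3, 34, false), (1, 13, false), (2, 20, false), (0, 11, false), (1, 9, false)]),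
    ([3, 2, 1], [(0, 13, true), (2, 30, true), (1, 12, true), (0, 10, true), (4, 26, true), (3, 21, true), (2, 3, true), (2, 28, true), (3, 6, true), (3, 6, false), (4, 35, false), (2, 28, false), (3, 34, false), (2, 3, false), (3, 32, false), (1, 13, false), (0, 12, false), (1, 10, false)]),
    ([4, 1, 0], [(0, 15, true), (3, 29, true), (2, 18, true), (1, 14, true), (0, 8, true), (2, 4, true), (3, 7, true), (3, 7, false), (2, 4, false), (3, 22, false), (4, 33, false), (1, 15, false), (0, 14, false), (1, 8, false)]),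
    ([4, 2, 1], [(0, 16, true), (1, 15, true), (0, 10, true), (4, 27, true), (3, 22, true), (5, 35, true), (6, 34, true), (5, 28, true), (4, 5, true), (4, 35, true), (5, 7, true), (4, 35, false), (4, 5, false), (5, 7, false), (5, 6, false), (6, 35, false), (4, 28, false), (5, 34, false), (2, 17, false), (3, 21, false), (4, 26, false), (5, 32, false), (1, 16, false), (2, 20, false), (3, 31, false), (0, 15, false), (1, 10, false)]),
    ([4, 3, 0], [(0, 17, true), (3, 29, true), (2, 23, true), (1, 14, true), (0, 11, true), (2, 22, true), (4, 35, true), (5, 7, true), (3, 28, false), (4, 34, false), (1, 17, false), (0, 14, false), (1, 11, false)]),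
    ([4, 3, 1], [(0, 17, true), (3, 30, true), (2, 24, true), (1, 15, true), (0, 12, true), (4, 35, true), (5, 7, true), (5, 7, false), (3, 28, false), (4, 34, false), (1, 17, false), (2, 21, false), (3, 32, false), (0, 15, false), (1, 12, false)]),
    ([4, 3, 2], [(0, 17, true), (3, 31, true), (2, 25, true), (1, 16, true), (0, 13, true), (2, 33, true), (3, 35, true), (4, 7, true), (4, 7, false), (1, 17, false), (0, 16, false), (1, 13, false)]),
    ([5, 1, 0], [(0, 19, true), (2, 23, true), (1, 18, true), (0, 8, true), (4, 35, true), (5, 7, true), (5, 7, false), (4, 35, false), (2, 22, false), (3, 27, false), (4, 33, false), (1, 19, false), (2, 30, false), (0, 18, false), (1, 8, false)]),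
    ([5, 2, 0], [(0, 20, true), (2, 23, true), (1, 18, true), (0, 9, true), (4, 35, true), (5, 7, true), (5, 7, false), (4, 35, false), (2, 22, false), (3, 27, false), (4, 33, false), (1, 20, false), (2, 31, false), (0, 18, false), (1, 9, false)]),
    ([5, 2, 1], [(0, 20, true), (2, 24, true), (1, 19, true), (0, 10, true), (4, 28, true), (3, 5, true), (3, 35, true), (4, 35, true), (3, 6, true), (3, 35, true), (3, 35, false), (3, 5, false), (2, 21, false), (3, 6, false), (1, 20, false), (2, 25, false), (0, 19, false), (1, 10, false)]),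
    ([5, 3, 0], [(0, 21, true), (1, 18, true), (0, 11, true), (2, 5, true), (2, 7, true), (2, 7, false), (2, 5, false), (3, 34, false), (1, 21, false), (2, 32, false), (0, 18, false), (1, 11, false)]),
    ([5, 3, 1], [(0, 21, true), (1, 19, true), (0, 12, true), (1, 21, false), (2, 26, false), (0, 19, false), (1, 12, false)]),
    ([5, 3, 2], [(0, 21, true), (1, 20, true), (0, 13, true), (2, 34, true), (3, 35, true), (1, 21, false), (2, 26, false), (0, 20, false), (1, 13, false)]),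
    ([5, 4, 0], [(0, 22, true), (2, 29, true), (1, 18, true), (0, 14, true), (3, 7, true), (3, 7, false), (1, 22, false), (2, 33, false), (0, 18, false), (1, 14, false)]),
    ([5, 4, 1], [(0, 22, true), (2, 30, true), (1, 19, true), (0, 15, true), (3, 34, true), (2, 5, true), (2, 7, true), (3, 7, false), (2, 35, false), (2, 5, false), (3, 28, false), (4, 34, false), (3, 35, false), (1, 22, false), (2, 27, false), (0, 19, false), (1, 15, false)]),
    ([5, 4, 2], [(0, 22, true), (2, 31, true), (1, 20, true), (0, 16, true), (3, 35, false), (1, 22, false), (2, 27, false), (0, 20, false), (1, 16, false)]),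
    ([6, 1, 0], [(0, 24, true), (1, 23, true), (0, 8, true), (2, 27, false), (3, 33, false), (1, 24, false), (2, 30, false), (0, 23, false), (1, 8, false)]),
    ([1, 1, 0], [(0, 1, true), (0, 11, true), (3, 7, false), (2, 4, false), (3, 22, false), (4, 33, false), (1, 1, false), (2, 15, false), (0, 8, false), (1, 8, false)]),
    ([1, 0, 0], [(0, 8, true), (2, 14, true), (1, 8, true), (0, 0, true), (0, 30, true), (1, 33, true), (2, 33, true), (1, 4, true), (1, 0, false)]),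
    ([1, 1, 1], [(0, 1, true), (0, 12, true), (1, 1, false)]),
    ([2, 2, 1], [(0, 2, true), (1, 6, false), (2, 7, false), (1, 35, false), (1, 5, false), (2, 28, false), (3, 34, false), (1, 28, false), (1, 3, false), (2, 21, false), (3, 32, false), (3, 6, false), (4, 35, false), (3, 35, false), (2, 34, false), (1, 2, false), (2, 13, false), (3, 20, false), (4, 25, false), (0, 10, false), (1, 10, false)]),
    ([2, 1, 1], [(0, 10, true), (4, 24, true), (3, 19, true), (2, 12, true), (1, 10, true), (0, 1, true), (0, 13, true), (2, 32, true), (1, 3, true), (2, 34, true), (1, 28, true), (3, 35, true), (2, 6, true), (2, 32, true), (1, 21, true), (3, 34, true), (2, 5, true), (2, 7, true), (2, 6, true), (1, 1, false)]),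
    ([3, 3, 0], [(0, 3, true), (0, 23, true), (1, 35, false), (1, 5, false), (2, 28, false), (1, 28, false), (1, 3, false), (2, 21, false), (0, 11, false), (1, 11, false)]),
    ([8, 4, 5, 6, 7, 0], [(0, 37, true), (6, 36, true), (5, 29, true), (4, 23, true), (3, 18, true), (2, 14, true), (1, 9, true), (0, 8, true), (2, 16, true), (3, 4, true), (5, 35, true), (6, 7, true), (1, 37, false), (0, 36, false), (5, 7, false), (4, 35, false), (1, 14, false), (2, 18, false), (3, 23, false), (4, 29, false)]),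
    ([8, 4, 5, 6, 7, 4, 5, 6, 7], [(0, 37, true), (6, 37, true), (5, 30, true), (4, 24, true), (3, 19, true), (2, 15, true), (1, 10, true), (0, 1, true), (0, 13, true), (2, 32, true), (1, 3, true), (2, 34, true), (1, 28, true), (3, 35, true), (2, 6, true), (2, 33, true), (1, 22, true), (3, 7, true), (2, 5, true), (2, 7, true), (3, 6, true), (3, 31, true), (2, 20, true), (1, 16, true), (0, 2, true), (3, 33, true), (2, 27, true), (1, 22, true), (0, 4, true), (1, 35, true), (2, 7, true), (1, 28, true), (0, 5, true), (0, 35, true), (1, 35, true), (0, 6, true), (0, 7, true), (1, 7, false), (1, 6, false), (2, 35, false), (1, 35, false), (1, 5, false), (2, 28, false), (3, 7, false), (2, 35, false), (1, 4, false), (2, 22, false), (3, 27, false), (4, 33, false)]),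
    ([9, 0, 0], [(0, 40, true), (2, 40, true), (1, 29, true), (0, 0, true), (0, 7, true), (0, 42, false), (1, 0, false)]),
    ([9, 5, 7, 5, 7], [(0, 41, true), (2, 41, true), (1, 18, true), (0, 0, true), (0, 34, true), (1, 7, true), (0, 5, true), (0, 42, false), (1, 7, false), (1, 5, false), (2, 34, false)]),
    ([10, 2, 3, 4, 7, 2, 3, 4, 7], [(0, 43, true), (1, 43, true), (0, 6, true), (1, 7, false), (1, 4, false), (2, 33, false), (2, 6, false), (1, 27, false), (1, 3, false), (2, 17, false), (3, 7, false), (2, 33, false), (1, 2, false), (2, 13, false), (3, 16, false), (4, 31, false)]),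
    ([10, 4, 5, 2, 3, 4, 7], [(0, 44, true), (3, 43, true), (2, 35, true), (1, 28, false), (0, 27, false), (1, 44, false), (0, 43, false), (4, 33, true), (3, 4, true), (3, 34, true), (4, 7, false), (3, 4, false), (4, 22, false), (5, 33, false), (5, 6, false), (6, 35, false), (4, 28, false), (5, 34, false), (2, 17, false), (3, 21, false), (4, 26, false), (1, 16, false), (2, 20, false)]),
    ([11, 0, 1, 2, 3, 5, 6, 0, 1, 2, 3, 5, 6], [(0, 47, true), (3, 47, true), (2, 21, true), (1, 17, true), (0, 3, true), (0, 27, true), (1, 6, true), (1, 34, true), (2, 33, true), (1, 22, true), (0, 4, true), (1, 7, true), (0, 5, true), (0, 49, false), (1, 6, false), (2, 35, false), (1, 35, false), (1, 5, false), (2, 28, false), (1, 28, false), (1, 3, false), (2, 21, false), (3, 7, false), (3, 6, false), (4, 35, false), (3, 35, false), (2, 34, false), (1, 2, false), (2, 13, false), (3, 20, false), (4, 25, false),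 (5, 31, false), (4, 35, false), (2, 21, false), (3, 32, false), (3, 6, false), (4, 35, false), (2, 28, false), (3, 34, false), (2, 3, false), (3, 32, false), (1, 13, false), (1, 1, false), (2, 10, false), (3, 12, false), (4, 24, false), (5, 7, false), (4, 35, false), (4, 7, false), (4, 5, false), (5, 34, false), (4, 34, false), (3, 32, false), (3, 4, false), (4, 33, false), (2, 16, false), (3, 31, false), (2, 33, false), (1, 30, false), (1, 0, false), (2, 8, false), (3, 9, false), (4, 11, false), (5, 18, false), (6, 23, false)]),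
    ([11, 3, 4, 6, 7, 3, 4, 6, 7], [(0, 48, true), (3, 48, true), (2, 26, true), (1, 17, true), (0, 3, true), (0, 27, true), (1, 6, true), (1, 35, true), (2, 33, true), (1, 27, true), (0, 4, true), (1, 35, true), (0, 6, true), (0, 49, false), (1, 6, false), (1, 4, false), (2, 27, false), (3, 7, false), (2, 35, false), (2, 6, false), (1, 27, false), (1, 3, false), (2, 17, false), (3, 26, false), (4, 32, false)])]
  combos := [
    [(4, 1), (6, 1), (7, 1), (8, 1), (9, 1), (10, 1), (11, 1), (12, 1), (13, 1), (14, 1), (15, 1), (16, 1), (18, 1), (27, 1), (28, 1)],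
    [(0, 1), (2, 1), (4, 1), (8, 1), (9, 1), (10, 1), (12, 1), (17, 1), (18, 1), (19, 1), (22, 1), (24, 1), (29, 1)],
    [(1, 1), (5, 1), (6, 1), (7, 1), (8, 1), (9, 1), (12, 1), (17, 1), (19, 1), (23, 1), (24, 1), (25, 1), (26, 1), (27, 1), (28, 1), (30, 1), (31, 1), (32, 1)],
    [(0, 1), (1, 1), (2, 1), (3, 1), (4, 1), (5, 1), (7, 1), (8, 1), (9, 1), (13, 1), (16, 1), (19, 1), (21, 1), (22, 1), (23, 1), (30, 1)],
    [(1, 1), (2, 1), (11, 1), (12, 1), (15, 1), (21, 1), (22, 1), (23, 1), (24, 1)],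
    [(2, 1), (3, 1), (5, 1), (7, 1), (8, 1), (11, 1), (12, 1), (13, 1), (14, 1), (15, 1), (16, 1), (18, 1)],
    [(6, 1), (9, 1), (13, 1), (14, 1), (15, 1), (16, 1)],
    [(0, 1), (4, 1), (6, 1), (9, 1), (10, 1), (17, 1), (18, 1), (19, 1), (25, 1)],
    [(2, 1), (6, 1), (7, 1), (9, 1), (10, 1), (13, 1), (14, 1), (17, 1), (18, 1), (19, 1), (24, 1), (26, 1), (29, 1)],
    [(21, 1)],
    [(1, 1), (3, 1), (5, 1), (8, 1), (12, 1), (14, 1), (15, 1), (16, 1), (17, 1), (19, 1), (21, 1), (25, 1), (26, 1), (27, 1), (28, 1), (30, 1), (31, 1), (32, 1)],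
    [(0, 1), (4, 1), (5, 1), (7, 1), (8, 1), (9, 1), (11, 1), (15, 1), (16, 1), (19, 1), (20, 1), (30, 1)],
    [(0, 1), (1, 1), (2, 1), (3, 1), (4, 1), (5, 1), (6, 1), (10, 1), (11, 1), (12, 1), (14, 1), (15, 1), (18, 1), (21, 1), (22, 1), (23, 1), (30, 1)],
    [(1, 1), (2, 1), (3, 1), (5, 1), (6, 1), (7, 1), (8, 1), (10, 1), (13, 1), (16, 1), (17, 1), (18, 1), (21, 1), (22, 1), (23, 1), (30, 1)],
    [(2, 1), (3, 1), (9, 1), (11, 1), (14, 1), (15, 1), (16, 1), (18, 1), (21, 1), (22, 1), (23, 1)],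
    [(4, 1), (9, 1), (15, 1), (18, 1)],
    [(1, 1), (2, 1), (13, 1), (14, 1), (15, 1)],
    [(1, 1), (2, 1), (7, 1), (8, 1), (15, 1), (17, 1), (18, 1), (21, 1), (22, 1), (23, 1)],
    [(9, 1), (18, 1)],
    [(3, 1), (8, 1), (9, 1), (10, 1), (11, 1), (12, 1), (13, 1), (16, 1), (18, 1)],
    [(1, 1), (2, 1), (3, 1), (8, 1), (11, 1), (13, 1), (15, 1), (17, 1), (18, 1), (21, 1), (22, 1), (23, 1)],
    [(13, 1)],
    [(1, 1), (2, 1), (3, 1), (7, 1), (8, 1), (9, 1), (10, 1), (12, 1), (13, 1), (15, 1), (18, 1), (21, 1), (22, 1), (23, 1)],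
    [(7, 1), (8, 1), (9, 1), (10, 1), (11, 1), (12, 1), (16, 1), (18, 1)],
    [(7, 1), (8, 1), (9, 1), (10, 1), (11, 1), (12, 1), (15, 1)],
    [(1, 1), (2, 1), (3, 1), (11, 1), (13, 1), (15, 1), (21, 1), (22, 1), (23, 1)],
    [(1, 1), (2, 1), (3, 1), (9, 1), (10, 1), (11, 1), (13, 1), (15, 1), (21, 1), (22, 1), (23, 1)],
    [(7, 1), (8, 1), (11, 1), (13, 1), (14, 1), (17, 1), (18, 1)],
    [(7, 1), (8, 1), (9, 1), (10, 1), (11, 1), (12, 1)],
    [(7, 1), (8, 1), (11, 1), (12, 1), (13, 1), (14, 1), (17, 1), (18, 1)],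
    [(7, 1), (8, 1), (11, 1), (12, 1), (17, 1), (18, 1)]]
  sorted := []

/-- the symbols as a straight line program -/
def prog2 : List (ℕ × ℕ) := [
    (3, 4), (0, 4), (0, 5), (0, 9), (0, 4), (0, 11), (0, 9), (0, 10),
    (16, 16), (0, 14), (0, 18), (0, 19), (0, 17), (0, 19), (0, 19), (17, 24),
    (0, 18), (0, 21), (0, 22), (0, 23), (0, 24), (0, 28), (0, 26), (0, 30),
    (0, 28), (0, 29), (0, 30), (0, 31), (0, 30), (0, 38), (0, 32), (0, 35),
    (0, 36), (0, 37), (0, 38), (0, 42), (0, 40), (0, 44), (0, 42), (0, 43),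
    (0, 44), (0, 45), (0, 44), (0, 52), (0, 46), (30, 0), (0, 52), (0, 47),
    (0, 56), (0, 57), (57, 54), (0, 58), (0, 61), (0, 62), (0, 63), (0, 64),
    (0, 58), (0, 66), (0, 60), (0, 68), (0, 69), (0, 70), (0, 71), (0, 70),
    (0, 68), (0, 72), (0, 75), (0, 76), (0, 77), (0, 78), (0, 72), (0, 80),
    (0, 74), (0, 82), (0, 83), (0, 84), (0, 85), (0, 84), (0, 82), (0, 86),
    (30, 0), (0, 87), (0, 82), (0, 91), (0, 39), (90, 5), (0, 94), (0, 87),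
    (0, 94), (0, 94), (0, 45), (0, 94), (0, 96), (8, 8), (97, 97), (95, 0),
    (99, 0), (100, 0), (98, 0), (100, 0), (100, 0), (21, 0), (103, 0), (108, 0),
    (107, 0), (108, 0), (61, 0), (108, 0), (113, 0), (112, 0), (30, 0), (120, 119),
    (120, 0), (121, 0), (115, 0), (120, 0), (117, 0), (125, 0), (126, 0), (8, 0),
    (35, 112), (1, 0), (11, 11), (0, 4), (30, 116), (1, 0), (7, 3), (119, 33),
    (1, 0), (0, 18), (4, 45), (1, 0), (0, 13), (1, 125), (1, 0), (138, 140),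
    (0, 144), (140, 146), (0, 146), (147, 148), (0, 143), (0, 141), (5, 146), (0, 149)]

/-- where the symbols are -/
def pos2 : List ℕ := [136, 59, 51, 50, 22, 18, 12, 9, 7, 5, 2, 0]

/-- vectors witnessing the order of the Sylow subgroup -/
def vecs2 : List (List (List ℕ)) := [
    [[0, 0, 0, 1, 3, 0, 0, 0, 0, 0, 0, 4, 4, 0, 2, 0, 0, 2, 3, 3, 4, 0, 1, 1, 0, 1, 2, 1, 0, 0, 0, 0, 1, 3, 4, 2, 3, 1, 3, 4, 0, 3, 0, 1, 2, 0, 3, 4, 4, 2, 3, 4, 0, 4, 0, 0, 4, 0, 0, 0, 4, 4, 3, 1, 2, 3, 4, 2, 2, 3, 3, 2, 2, 3, 4, 3, 0, 1, 2, 0, 0, 2, 0, 2, 3, 2, 0, 3, 2, 3, 3, 1, 4, 4, 4, 0, 4, 4, 4, 2, 1, 4, 2, 0, 0, 0, 1, 0, 0, 0, 0],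
      [0, 0, 0, 4, 2, 0, 0, 0, 0, 0, 0, 1, 1, 0, 3, 0, 0, 3, 2, 2, 1, 0, 4, 4, 0, 4, 3, 4, 0, 0, 0, 0, 4, 2, 1, 3, 2, 4, 2, 1, 0, 2, 0, 4, 3, 0, 2, 1, 1, 3, 2, 1, 0, 1, 0, 0, 1, 0, 0, 0, 1, 1, 2, 4, 3, 2, 1, 3, 3, 2, 2, 3, 3, 2, 1, 2, 0, 4, 3, 0, 0, 3, 0, 3, 2, 3, 0, 2, 3, 2, 2, 4, 1, 1, 1, 0, 1, 1, 1, 3, 4, 1, 3, 0, 0, 0, 4, 0, 0, 0, 0]],
    [[0, 0, 0, 1, 3, 0, 0, 0, 0, 0, 0, 4, 4, 0, 2, 0, 0, 2, 3, 3, 4, 0, 1, 1, 0, 1, 2, 1, 0, 0, 0, 0, 1, 3, 4, 2, 3, 1, 3, 4, 0, 3, 0, 1, 2, 0, 3, 4, 4, 2, 3, 4, 0, 4, 0, 0, 4, 0, 0, 0, 4, 4, 3, 1, 2, 3, 4, 2, 2, 3, 3, 2, 2, 3, 4, 3, 0, 1, 2, 0, 0, 2, 0, 2, 3, 2, 0, 3, 2, 3, 3, 1, 4, 4, 4, 0, 4, 4, 4, 2, 1, 4, 2, 0, 0, 0, 1, 0, 0, 0, 0]],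
    [[0, 0, 4, 4, 0, 0, 0, 0, 0, 0, 0, 2, 3, 3, 4, 0, 2, 1, 4, 4, 1, 4, 1, 4, 4, 0, 4, 0, 0, 0, 0, 2, 0, 1, 2, 3, 0, 0, 1, 4, 4, 2, 3, 4, 1, 3, 2, 1, 3, 0, 4, 0, 3, 0, 3, 2, 1, 2, 1, 3, 0, 4, 3, 3, 1, 4, 1, 1, 4, 2, 2, 0, 4, 4, 1, 1, 4, 4, 3, 0, 3, 3, 3, 3, 3, 1, 2, 1, 4, 3, 4, 2, 3, 1, 0, 1, 3, 1, 3, 1, 0, 2, 1, 0, 0, 0, 0, 0, 0, 0, 0]],
    [[0, 0, 0, 3, 0, 0, 0, 0, 0, 0, 0, 0, 0, 2, 2, 1, 3, 2, 2, 3, 2, 3, 1, 2, 2, 3, 3, 3, 3, 1, 4, 3, 0, 1, 0, 4, 3, 3, 1, 3, 0, 2, 4, 1, 2, 2, 3, 0, 0, 3, 1, 2, 2, 2, 4, 4, 1, 3, 4, 2, 1, 4, 2, 3, 0, 2, 1, 0, 4, 0, 2, 1, 2, 1, 3, 3, 0, 3, 0, 2, 2, 4, 0, 2, 1, 2, 1, 3, 3, 1, 1, 3, 2, 3, 4, 2, 1, 2, 0, 2, 1, 0, 0, 0, 0, 0, 0, 0, 0, 0, 0]],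
    [[0, 0, 2, 2, 4, 0, 0, 0, 0, 0, 0, 2, 3, 3, 4, 3, 4, 0, 2, 4, 0, 1, 2, 1, 1, 0, 2, 0, 1, 0, 2, 4, 1, 3, 2, 1, 1, 4, 3, 0, 1, 1, 3, 1, 1, 2, 0, 1, 3, 2, 3, 4, 4, 0, 3, 2, 2, 4, 1, 3, 2, 0, 2, 1, 1, 1, 1, 4, 1, 1, 0, 2, 4, 2, 3, 4, 4, 0, 1, 4, 1, 2, 4, 1, 2, 3, 4, 0, 3, 4, 0, 2, 1, 0, 0, 0, 0, 0, 0, 0, 0, 0, 0, 0, 0, 0, 0, 0, 0, 0, 0]],
    [[0, 0, 1, 4, 2, 0, 0, 0, 0, 0, 0, 3, 4, 2, 3, 3, 1, 0, 1, 4, 0, 3, 3, 0, 0, 1, 1, 2, 3, 1, 2, 4, 2, 4, 3, 4, 1, 4, 0, 4, 0, 0, 0, 3, 1, 1, 2, 1, 4, 2, 0, 4, 2, 4, 3, 4, 2, 1, 2, 2, 1, 1, 3, 3, 0, 0, 2, 3, 2, 0, 4, 0, 3, 0, 1, 4, 2, 4, 2, 2, 1, 0, 0, 0, 0, 0, 0, 0, 0, 0, 0, 0, 0, 0, 0, 0, 0, 0, 0, 0, 0, 0, 0, 0, 0, 0, 0, 0, 0, 0, 0]],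
    [[0, 0, 1, 0, 0, 0, 0, 0, 0, 0, 0, 0, 0, 0, 0, 0, 0, 0, 0, 0, 0, 0, 0, 0, 0, 0, 0, 0, 0, 0, 0, 0, 0, 0, 0, 0, 0, 0, 0, 0, 0, 0, 0, 0, 0, 0, 0, 0, 0, 0, 0, 0, 0, 0, 0, 0, 0, 0, 0, 0, 0, 0, 0, 0, 0, 0, 0, 0, 0, 0, 0, 0, 0, 0, 0, 0, 0, 0, 0, 0, 0, 0, 0, 0, 0, 0, 0, 0, 0, 0, 0, 0, 0, 0, 0, 0, 0, 0, 0, 0, 0, 0, 0, 0, 0, 0, 0, 0, 0, 0, 0]],
    [[1, 0, 0, 0, 0, 0, 0, 0, 0, 0, 0, 0, 0, 0, 0, 0, 0, 0, 0, 0, 0, 0, 0, 0, 0, 0, 0, 0, 0, 0, 0, 0, 0, 0, 0, 0, 0, 0, 0, 0, 0, 0, 0, 0, 0, 0, 0, 0, 0, 0, 0, 0, 0, 0, 0, 0, 0, 0, 0, 0, 0, 0, 0, 0, 0, 0, 0, 0, 0, 0, 0, 0, 0, 0, 0, 0, 0, 0, 0, 0, 0, 0, 0, 0, 0, 0, 0, 0, 0, 0, 0, 0, 0, 0, 0, 0, 0, 0, 0, 0, 0, 0, 0, 0, 0, 0, 0, 0, 0, 0, 0]]]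

end H46.LySchur
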