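import Cfsg.Agent.H46.Ly.Cert
import Cfsg.Agent.H46.Ly.SchurData2

/-! Kernel check of the certificate for the prime 2. -/

set_option autoImplicit false
set_option maxRecDepth 100000
set_option maxHeartbeats 0
set_option exponentiation.threshold 300
set_option Elab.async false

namespace H46.LySchur

open H97.SchurCert

theorem mat2 : matOK data2 prog2 pos2 vecs2 = true := by decide +kernel

theorem defs2 : defsOK data2 = true := by decide +kernel

theorem pc2 : pcOK data2 = true := by decide +kernel

theorem combos2 : combosOK data2 = true := by decide +kernel

end H46.LySchur
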